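import Cfsg.Agent.GTwoType.Fusion
import Cfsg.Agent.GTwoType.Sylow
import Cfsg.Agent.M12Cent.Concrete

/-!
# The Sylow 2-subgroups of `M₁₂` in the coordinates of the model of type `G₂(q)`
-/

set_option autoImplicit false
set_option linter.unusedSectionVars false
set_option linter.style.haveILetI false
set_option maxRecDepth 100000

namespace Cfsg.Lib.MTwelveType

open Subgroup
open Cfsg.Lib.GTwoType Cfsg.Lib.GTwoType.Mdl

universe u

/-- The model. -/
abbrev M4 : Type := Mdl (2 ^ 2)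

open Cfsg.Lib.M12Cent (M) in
theorem gens_rel :
    let X : M := M.mk 52
    let Y : M := M.mk 142
    let R : M := M.mk 60
    let I : M := M.mk 96
    X * X * (X * X) = 1 ∧ Y * Y * (Y * Y) = 1 ∧ X * Y = Y * X ∧ R * X = Y * R ∧ R * Y = X * R ∧
      I * X = X⁻¹ * I ∧ I * Y = Y⁻¹ * I ∧ R * R = 1 ∧ I * I = 1 ∧ I * R = R * I := by decide +kernel

/-- A power with exponent below four. -/
def pw {H : Type*} [One H] [Mul H] (X : H) (x : ZMod (2 ^ 2)) : H :=
  if x = 0 then 1 else if x = 1 then X else if x = 2 then X * X else X * X * X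

theorem pow_val {H : Type*} [Group H] (X : H) (x : ZMod (2 ^ 2)) : X ^ x.val = pw X x := by
  have h : x = 0 ∨ x = 1 ∨ x = 2 ∨ x = 3 := by revert x; decide
  rcases h with rfl | rfl | rfl | rfl
  · simp [pw]
  · rw [show (1 : ZMod (2 ^ 2)).val = 1 from rfl, pow_one]; rfl
  · rw [show (2 : ZMod (2 ^ 2)).val = 2 from rfl, pow_two]; rfl
  · rw [show (3 : ZMod (2 ^ 2)).val = 3 from rfl, pow_succ, pow_two]; rfl

open Cfsg.Lib.M12Cent (M) in
theorem gens_faithful : ∀ (x y : ZMod (2 ^ 2)) (s e : Bool),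
    pw (M.mk 52) x * pw (M.mk 142) y * ((if s then M.mk 60 else 1) * (if e then M.mk 96 else 1)) = 1 →
      x = 0 ∧ y = 0 ∧ s = false ∧ e = false := by decide +kernel

theorem exists_embedding : ∃ φ : M4 →* ↥Cfsg.Spor.M12, Function.Injective φ := by
  obtain ⟨hX, hY, hXY, hRX, hRY, hIX, hIY, hR, hI, hRI⟩ := gens_rel
  haveI : NeZero (2 ^ 2) := ⟨by norm_num⟩
  have h4 : ∀ {Z : Cfsg.Lib.M12Cent.M}, Z * Z * (Z * Z) = 1 → Z ^ (2 ^ 2) = 1 := fun {Z} h => by
    rw [show 2 ^ 2 = 2 + 2 from rfl, pow_add, pow_two, h]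
  obtain ⟨φ, hφ⟩ := Cfsg.Lib.GTwoType.SylTwo.exists_hom (h4 hX) (h4 hY) hXY hRX hRY hIX hIY hR hI hRI
  refine ⟨Cfsg.Lib.M12Cent.x12Equiv.toMonoidHom.comp (Cfsg.Lib.M12Cent.emb.comp φ), ?_⟩
  refine (Cfsg.Lib.M12Cent.x12Equiv.injective.comp (Cfsg.Lib.M12Cent.emb_inj.comp ?_))
  refine (injective_iff_map_eq_one φ).2 fun q hq => ?_
  rw [hφ, Cfsg.Lib.GTwoType.SylTwo.val, pow_val, pow_val] at hq
  obtain ⟨h1, h2, h3, h4⟩ := gens_faithful _ _ _ _ hq
  exact Mdl.ext h1 h2 h3 h4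

theorem card_M4 : Nat.card M4 = 64 := by
  haveI : NeZero (2 ^ 2) := ⟨by norm_num⟩
  rw [Mdl.card]; norm_num

/-- A group with Sylow 2-subgroups like those of `M₁₂` carries the model. -/
theorem exists_typed {G : Type u} [Group G] [Finite G] (S : Sylow 2 G) (P : Sylow 2 ↥Cfsg.Spor.M12)
    (hS : Nonempty (↥(S : Subgroup G) ≃* ↥(P : Subgroup ↥Cfsg.Spor.M12))) :
    ∃ c : Typed G 2, c.S = S := by
  haveI : Fact (Nat.Prime 2) := ⟨Nat.prime_two⟩
  obtain ⟨φ, hφ⟩ := exists_embedding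
  have hp : IsPGroup 2 φ.range := IsPGroup.of_card (n := 6) (by
    rw [← Nat.card_congr (MonoidHom.ofInjective hφ).toEquiv, card_M4]; norm_num)
  obtain ⟨R, hR⟩ := hp.exists_le_sylow
  have hcard : Nat.card ↥(R : Subgroup ↥Cfsg.Spor.M12) = 64 := by
    rw [R.card_eq_multiplicity, Cfsg.Lib.Golay.card_M12]
    rw [show (95040 : ℕ) = 2 ^ 6 * 1485 by norm_num, Nat.factorization_mul (by norm_num) (by norm_num)]
    rw [Finsupp.add_apply, Nat.Prime.factorization_pow Nat.prime_two, Finsupp.single_eq_same,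
      Nat.factorization_eq_zero_of_not_dvd (show ¬ 2 ∣ 1485 by norm_num)]
    norm_num
  have heq : φ.range = (R : Subgroup ↥Cfsg.Spor.M12) := Subgroup.eq_of_le_of_card_ge hR (by
    rw [hcard, ← Nat.card_congr (MonoidHom.ofInjective hφ).toEquiv, card_M4])
  obtain ⟨f⟩ := hS
  exact ⟨⟨S, ((MonoidHom.ofInjective hφ).trans (MulEquiv.subgroupCongr heq)).trans
    ((Sylow.equiv R P).trans f.symm), le_rfl⟩, rfl⟩

end Cfsg.Lib.MTwelveType
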