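import Cfsg.Agent.MTwelveType.Fusion
import Cfsg.Agent.GTwoCent.Fusion
import Cfsg.Agent.GTwoCent.Setting
import Cfsg.Agent.InvolCalc.Dihedral
import Cfsg.Agent.Walter.LocalQuot

/-!
# The centraliser of a central involution with Sylow 2-subgroups of type `M₁₂`

The fused inner involutions other than `t` are fused in the centraliser, and the outer involutions are
not fused into the inner part.
-/

set_option autoImplicit false
set_option linter.unusedSectionVars false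
set_option linter.style.haveILetI false
set_option maxRecDepth 100000
set_option maxHeartbeats 400000
set_option synthInstance.maxSize 4096
set_option synthInstance.maxHeartbeats 400000

namespace Cfsg.Lib.MTwelveType

open Subgroup
open Cfsg.Lib.GTwoType Cfsg.Lib.GTwoType.Mdl
open Cfsg.Lib.GTwoCent (M0 jj commute_T exists_to_pair inner_root uu tt u_ne_one u_ne_t t_ne_one t_mem u_mem
  jj_notMem jj_sq jj_u no_swap omega_two Ae Ae_index ι_Ae comm_u_of_s Om mem_Om translation t_mul_u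
  mul_mem_M0_of M0_index M0_normal two_eq_one_of_odd)
open Cfsg.Lib.Walter (Qt qm)

universe v

variable {G : Type v} [Group G] [Finite G] {c : Typed G 2}

local notation "T" => c.ι (t 2)
local notation "U" => c.ι (u 2)
local notation "J" => c.ι (jj 2)

theorem jj_inT : InT (jj 2) = true ∧ InT (u 2) = true ∧ InT (t 2) = true := by decide +kernel

/-- A fused inner involution other than `t` goes to `t`, with `t` going to `u`. -/
theorem to_pair (hp : Pattern c) {k : M4} (hk : k * k = 1) (hk1 : k ≠ 1) (hkt : k ≠ t 2) (hM : k ∈ M0 (2 ^ 2))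
    (hin : InT k = true) : ∃ g : G, g * c.ι k * g⁻¹ = T ∧ g * T * g⁻¹ = U := by
  obtain ⟨v, hv, hv2⟩ := inner_root le_rfl hk hk1 hkt hM
  obtain ⟨g, hg, hgS⟩ := c.exists_conj_cent ((hp.isConj_iff_inT hk hk1).2 hin)
  obtain ⟨w, hw⟩ := c.exists_ι (hgS _ (c.ι_mem v) (show Commute (c.ι v) (c.ι k) from by
    rw [commute_iff_eq, ← map_mul, ← map_mul, hv]))
  have hww : c.ι (w * w) = g * T * g⁻¹ := by rw [map_mul, hw, ← hv2, map_mul]; group
  have ho : orderOf (c.ι (w * w)) = 2 := by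
    rw [hww, ← MulAut.conj_apply, MulEquiv.orderOf_eq, orderOf_T]
  obtain ⟨hi, hne⟩ := c.inv_pre ho
  rcases square_inv (by norm_num) w hne hi with e | e | e
  · exfalso
    have h : g * T * g⁻¹ = g * c.ι k * g⁻¹ := by rw [← hww, e, hg]
    exact hkt (c.ι_inj (mul_left_cancel (mul_right_cancel h))).symm
  · exact ⟨g, hg, by rw [← hww, e]⟩
  · have hr : r (2 ^ 2) * u' 2 * (r (2 ^ 2))⁻¹ = u 2 := by decide +kernel
    refine ⟨c.ι (r (2 ^ 2)) * g, ?_, ?_⟩
    · calc c.ι (r (2 ^ 2)) * g * c.ι k * (c.ι (r (2 ^ 2)) * g)⁻¹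
          = c.ι (r (2 ^ 2)) * (g * c.ι k * g⁻¹) * (c.ι (r (2 ^ 2)))⁻¹ := by group
        _ = T := by rw [hg, commute_T, mul_inv_cancel_right]
    · calc c.ι (r (2 ^ 2)) * g * T * (c.ι (r (2 ^ 2)) * g)⁻¹
          = c.ι (r (2 ^ 2)) * (g * T * g⁻¹) * (c.ι (r (2 ^ 2)))⁻¹ := by group
        _ = U := by rw [← hww, e, ← map_inv, ← map_mul, ← map_mul, hr]

/-- The fused inner involutions other than `t` are conjugate in the centraliser. -/
theorem fused_cent (hp : Pattern c) {k : M4} (hk : k * k = 1) (hk1 : k ≠ 1) (hkt : k ≠ t 2)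
    (hM : k ∈ M0 (2 ^ 2)) (hin : InT k = true) : ∃ g : G, g * T = T * g ∧ g * c.ι k * g⁻¹ = U := by
  obtain ⟨g, hg, hg'⟩ := to_pair hp hk hk1 hkt hM hin
  obtain ⟨h, hh, hh'⟩ := to_pair hp uu (u_ne_one (by norm_num)) (u_ne_t (by norm_num)) (u_mem le_rfl) jj_inT.2.1
  refine ⟨h * g, mul_inv_eq_iff_eq_mul.1 ?_, ?_⟩
  · calc h * g * T * (h * g)⁻¹ = h * (g * T * g⁻¹) * h⁻¹ := by group
      _ = T := by rw [hg', hh]
  · calc h * g * c.ι k * (h * g)⁻¹ = h * (g * c.ι k * g⁻¹) * h⁻¹ := by group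
      _ = U := by rw [hg, hh']

/-- No element of the centraliser moves `j` to `u`. -/
theorem jj_not_to_u {f : G} (hfT : f * T = T * f) (hfJ : f * J * f⁻¹ = U) : False := by
  haveI : Fact (Nat.Prime 2) := ⟨Nat.prime_two⟩
  have ha : 1 ≤ 2 := one_le_two
  haveI : NeZero (2 ^ 2) := ⟨by positivity⟩
  -- 2 two-group of order at least `2 n²` centralising `t` and `j`
  set CJ : Subgroup G := centralizer ({T, J} : Set G) with hCJ
  have hmemCJ : ∀ x, x ∈ CJ ↔ T * x = x * T ∧ J * x = x * J := fun x => by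
    simp [hCJ, mem_centralizer_iff]
  set B : Subgroup G := ((Ae (2 ^ 2)).map c.ι).map (MulAut.conj f⁻¹).toMonoidHom with hB
  have hBJ : B ≤ CJ := by
    rintro _ ⟨_, ⟨q, hq, rfl⟩, rfl⟩
    have hqU := congrArg c.ι (comm_u_of_s hq)
    rw [map_mul, map_mul] at hqU
    have hfT' : f⁻¹ * T * f = T := by rw [mul_assoc, ← hfT, inv_mul_cancel_left]
    have hfJ' : f⁻¹ * U * f = J := by rw [← hfJ]; group
    refine (hmemCJ _).2 ⟨?_, ?_⟩
    · show T * (f⁻¹ * c.ι q * f⁻¹⁻¹) = f⁻¹ * c.ι q * f⁻¹⁻¹ * T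
      calc T * (f⁻¹ * c.ι q * f⁻¹⁻¹) = (f⁻¹ * T * f) * (f⁻¹ * c.ι q * f⁻¹⁻¹) := by rw [hfT']
        _ = f⁻¹ * (T * c.ι q) * f := by group
        _ = f⁻¹ * (c.ι q * T) * f := by rw [commute_T]
        _ = f⁻¹ * c.ι q * f⁻¹⁻¹ * (f⁻¹ * T * f) := by group
        _ = _ := by rw [hfT']
    · show J * (f⁻¹ * c.ι q * f⁻¹⁻¹) = f⁻¹ * c.ι q * f⁻¹⁻¹ * J
      calc J * (f⁻¹ * c.ι q * f⁻¹⁻¹) = (f⁻¹ * U * f) * (f⁻¹ * c.ι q * f⁻¹⁻¹) := by rw [hfJ']
        _ = f⁻¹ * (U * c.ι q) * f := by group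
        _ = f⁻¹ * (c.ι q * U) * f := by rw [hqU]
        _ = f⁻¹ * c.ι q * f⁻¹⁻¹ * (f⁻¹ * U * f) := by group
        _ = _ := by rw [hfJ']
  set E : Subgroup G := closure ({T, U, J} : Set G) with hE
  have hEgen : T ∈ E ∧ U ∈ E ∧ J ∈ E :=
    ⟨subset_closure (by simp), subset_closure (by simp), subset_closure (by simp)⟩
  have hJU : J * U = U * J := by rw [← map_mul, ← map_mul, jj_u]
  have hEJ : E ≤ CJ := by
    refine (closure_le _).2 ?_
    rintro x (rfl | rfl | rfl)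
    · exact (hmemCJ _).2 ⟨rfl, commute_T c _⟩
    · exact (hmemCJ _).2 ⟨(commute_T c _).symm, hJU⟩
    · exact (hmemCJ _).2 ⟨(commute_T c _).symm, rfl⟩
  have hE8 : (E : Set G) ⊆
      c.ι '' ({1, t 2, u 2, u' 2, jj 2, t 2 * jj 2, u 2 * jj 2, u' 2 * jj 2} : Set (Mdl (2 ^ 2))) := by
    intro x hx
    have hEO : E ≤ Om c := (closure_le _).2 (by
      rintro y (rfl | rfl | rfl) <;> exact ι_Ae c rfl)
    have hEp : IsPGroup 2 E := c.S.2.to_le ((closure_le _).2 (by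
      rintro y (rfl | rfl | rfl) <;> exact c.ι_mem _))
    exact omega_two c hEp hEO hEgen.1 hEgen.2.1 hEgen.2.2
      (fun p hp => ((hmemCJ p).1 (hEJ hp)).2.symm) hx
  have hp : IsPGroup 2 E := c.S.2.to_le ((closure_le _).2 (by
    rintro y (rfl | rfl | rfl) <;> exact c.ι_mem _))
  obtain ⟨P, hP⟩ := (hp.of_equiv (subgroupOfEquivOfLe hEJ).symm).exists_le_sylow
  set P' : Subgroup G := (P : Subgroup ↥CJ).map CJ.subtype with hP'
  have hEP : E ≤ P' := fun x hx => ⟨⟨x, hEJ hx⟩, hP hx, rfl⟩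
  have hPp : IsPGroup 2 P' := P.2.map _
  have hlt : E < P' := by
    refine lt_of_le_of_ne hEP fun he => ?_
    have hBp : IsPGroup 2 B := ((c.S.2.to_le (by
      rintro _ ⟨q, -, rfl⟩; exact c.ι_mem q)).map (MulAut.conj f⁻¹).toMonoidHom)
    obtain ⟨P₂, hP₂⟩ := (hBp.of_equiv (subgroupOfEquivOfLe hBJ).symm).exists_le_sylow
    have hcP : Nat.card P' = Nat.card (P₂ : Subgroup ↥CJ) := by
      rw [← Nat.card_congr ((P : Subgroup ↥CJ).equivMapOfInjective _ CJ.subtype_injective).toEquiv]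
      exact Nat.card_congr (Sylow.equiv P P₂).toEquiv
    have hcB : Nat.card B ≤ Nat.card (P₂ : Subgroup ↥CJ) := by
      rw [← Nat.card_congr (subgroupOfEquivOfLe hBJ).toEquiv]
      exact Subgroup.card_le_of_le hP₂
    have hcE : Nat.card E ≤ 8 := by
      refine le_trans ?_ (le_of_eq (Nat.card_fin 8))
      let f8 : Fin 8 → Mdl (2 ^ 2) :=
        ![1, t 2, u 2, u' 2, jj 2, t 2 * jj 2, u 2 * jj 2, u' 2 * jj 2]
      have hsub : (E : Set G) ⊆ Set.range (c.ι ∘ f8) := by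
        intro x hx
        obtain ⟨q, hq, rfl⟩ := hE8 hx
        simp only [Set.mem_insert_iff, Set.mem_singleton_iff] at hq
        rcases hq with rfl | rfl | rfl | rfl | rfl | rfl | rfl | rfl
        exacts [⟨0, rfl⟩, ⟨1, rfl⟩, ⟨2, rfl⟩, ⟨3, rfl⟩, ⟨4, rfl⟩, ⟨5, rfl⟩, ⟨6, rfl⟩, ⟨7, rfl⟩]
      exact (Nat.card_mono (Set.finite_range _) hsub).trans (Finite.card_range_le _)
    have hcAe : 2 * Nat.card B = 4 * (2 ^ 2) ^ 2 := by
      rw [hB, ← Nat.card_congr (((Ae (2 ^ 2)).map c.ι).equivMapOfInjective _ (MulAut.conj f⁻¹).injective).toEquiv,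
        ← Nat.card_congr ((Ae (2 ^ 2)).equivMapOfInjective c.ι c.ι_inj).toEquiv, ← Mdl.card]
      have h := (Ae (2 ^ 2)).card_mul_index
      rw [Ae_index] at h
      rw [← h, mul_comm]
    have : 4 ^ 2 ≤ (2 ^ 2) ^ 2 :=
      Nat.pow_le_pow_left (show 2 ^ 2 ≤ 2 ^ 2 from Nat.pow_le_pow_right two_pos c.two_le) 2
    rw [← he] at hcP
    omega
  haveI : Group.IsNilpotent P' := hPp.isNilpotent
  have hnc := Group.normalizerCondition_of_isNilpotent (G := P') (E.subgroupOf P') (by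
    refine lt_top_iff_ne_top.2 fun h => ?_
    exact hlt.not_ge (subgroupOf_eq_top.1 h))
  obtain ⟨⟨x, hxP⟩, hxN, hxE⟩ := SetLike.exists_of_lt hnc
  have hxnE : x ∉ E := hxE
  have hxconj : ∀ y ∈ E, x * y * x⁻¹ ∈ E := fun y hy =>
    ((mem_normalizer_iff.1 hxN ⟨y, hEP hy⟩).1 hy : _)
  obtain ⟨z, hz, hzx⟩ := hxP
  have hxc := (hmemCJ x).1 (hzx ▸ z.2)
  have hxT : x * T * x⁻¹ = T := by rw [← hxc.1, mul_inv_cancel_right]
  have hxJ : x * J * x⁻¹ = J := by rw [← hxc.2, mul_inv_cancel_right]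
  obtain ⟨q, hq, hqx⟩ := hE8 (hxconj U hEgen.2.1)
  have hinj : ∀ p : Mdl (2 ^ 2), x * c.ι p * x⁻¹ = x * U * x⁻¹ → p = u 2 := fun p h =>
    c.ι_inj (mul_left_cancel (mul_right_cancel h))
  simp only [Set.mem_insert_iff, Set.mem_singleton_iff] at hq
  rcases hq with rfl | rfl | rfl | rfl | rfl | rfl | rfl | rfl
  · exact u_ne_one ha (hinj 1 (by rw [← hqx, map_one]; simp)).symm
  · exact u_ne_t ha (hinj (t 2) (by rw [← hqx, hxT])).symm
  · -- centralising `Ω`
    have hxO : x ∈ Om c := (mem_Om c).2 ⟨hxc.1.symm, mul_inv_eq_iff_eq_mul.1 hqx.symm⟩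
    have hEO : E ≤ Om c := (closure_le _).2 (by
      rintro y (rfl | rfl | rfl) <;> exact ι_Ae c rfl)
    have hle : E ⊔ zpowers x ≤ P' := sup_le hEP (zpowers_le.2 ⟨z, hz, hzx⟩)
    have h := omega_two c (hPp.to_le hle) (sup_le hEO (zpowers_le.2 hxO)) (le_sup_left (b := zpowers x) hEgen.1)
      (le_sup_left (b := zpowers x) hEgen.2.1) (le_sup_left (b := zpowers x) hEgen.2.2)
      (fun p hp => by
        obtain ⟨w, -, rfl⟩ := hle hp
        exact ((hmemCJ _).1 w.2).2.symm) (mem_sup_right (mem_zpowers x))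
    obtain ⟨w, hw, rfl⟩ := h
    refine hxnE ?_
    simp only [Set.mem_insert_iff, Set.mem_singleton_iff] at hw
    have hu' : c.ι (u' 2) ∈ E := by rw [← t_mul_u, map_mul]; exact mul_mem hEgen.1 hEgen.2.1
    rcases hw with rfl | rfl | rfl | rfl | rfl | rfl | rfl | rfl <;>
      (try simp only [map_mul, map_one]) <;>
      first
        | exact one_mem E
        | exact hEgen.1
        | exact hEgen.2.1
        | exact hu'
        | exact hEgen.2.2
        | exact mul_mem hEgen.1 hEgen.2.2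
        | exact mul_mem hEgen.2.1 hEgen.2.2
        | exact mul_mem hu' hEgen.2.2
  · refine no_swap c hxc.1.symm ?_ (Or.inl hxJ)
    rw [← hqx, ← map_mul, t_mul_u]
  · exact jj_notMem ha (hinj (jj 2) (by rw [← hqx, hxJ]) ▸ u_mem c.two_le)
  · have h := hinj (t 2 * jj 2) (by
      rw [← hqx, map_mul]
      calc x * (T * J) * x⁻¹ = (x * T * x⁻¹) * (x * J * x⁻¹) := by group
        _ = T * J := by rw [hxT, hxJ])
    refine jj_notMem ha ?_
    have := mul_mem (t_mem c.two_le) (h ▸ u_mem c.two_le : t 2 * jj 2 ∈ M0 (2 ^ 2))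
    rwa [← mul_assoc, tt, one_mul] at this
  all_goals
    obtain ⟨v, hv, hvJ⟩ := translation c.two_le
    set V := c.ι v with hV
    have hVT : V * T * V⁻¹ = T := by rw [commute_T, mul_inv_cancel_right]
    have hVU : V * U * V⁻¹ = U := by rw [hV, ← map_mul, hv, map_mul, mul_inv_cancel_right]
    have hVJ : V * J * V⁻¹ = T * J := by rw [hV, ← map_inv, ← map_mul, ← map_mul, hvJ, map_mul]
    set w := x * V * x⁻¹ with hw'
    have hwT : w * T * w⁻¹ = T := by
      calc w * T * w⁻¹ = x * (V * (x⁻¹ * T * x) * V⁻¹) * x⁻¹ := by rw [hw']; group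
        _ = T := by
          have : x⁻¹ * T * x = T := by rw [mul_assoc, hxc.1, inv_mul_cancel_left]
          rw [this, hVT, hxT]
    have hwJ : w * J * w⁻¹ = T * J := by
      calc w * J * w⁻¹ = x * (V * (x⁻¹ * J * x) * V⁻¹) * x⁻¹ := by rw [hw']; group
        _ = x * (T * J) * x⁻¹ := by
          have : x⁻¹ * J * x = J := by rw [mul_assoc, hxc.2, inv_mul_cancel_left]
          rw [this, hVJ]
        _ = (x * T * x⁻¹) * (x * J * x⁻¹) := by group
        _ = T * J := by rw [hxT, hxJ]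
    have hwU : w * (x * U * x⁻¹) * w⁻¹ = x * U * x⁻¹ := by
      calc w * (x * U * x⁻¹) * w⁻¹ = x * (V * U * V⁻¹) * x⁻¹ := by rw [hw']; group
        _ = _ := by rw [hVU]
    refine no_swap c (mul_inv_eq_iff_eq_mul.1 hwT) ?_ (Or.inr hwJ)
  · rw [← hqx, map_mul] at hwU
    have e : w * U * w⁻¹ * (T * J) = U * J := by
      rw [← hwJ]
      calc w * U * w⁻¹ * (w * J * w⁻¹) = w * (U * J) * w⁻¹ := by group
        _ = _ := hwU
    calc w * U * w⁻¹ = (U * J) * (T * J)⁻¹ := by rw [← e, mul_inv_cancel_right]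
      _ = U * T⁻¹ := by group
      _ = T * U := by rw [inv_eq_of_mul_eq_one_left (by rw [← map_mul, tt, map_one]), commute_T]
  · rw [← hqx, map_mul, ← t_mul_u, map_mul] at hwU
    have e : w * U * w⁻¹ * (T * J) = U * J := by
      rw [← hwJ]
      calc w * U * w⁻¹ * (w * J * w⁻¹) = (w * T * w⁻¹)⁻¹ * (w * (T * U * J) * w⁻¹) := by group
        _ = U * J := by rw [hwU, hwT]; group
    calc w * U * w⁻¹ = (U * J) * (T * J)⁻¹ := by rw [← e, mul_inv_cancel_right]
      _ = U * T⁻¹ := by group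
      _ = T * U := by rw [inv_eq_of_mul_eq_one_left (by rw [← map_mul, tt, map_one]), commute_T]


/-- `j` is not fused into the inner part. -/
theorem jj_not_fused (hp : Pattern c) {g : G} (hgT : g * T = T * g) {k : M4} (hM : k ∈ M0 (2 ^ 2))
    (hgk : g * J * g⁻¹ = c.ι k) : False := by
  have hj1 : jj 2 ≠ 1 := fun e => jj_notMem (a := 2) (by norm_num) (e ▸ one_mem _)
  have hk : k * k = 1 ∧ k ≠ 1 := c.inv_pre (by
    rw [← hgk, ← MulAut.conj_apply, MulEquiv.orderOf_eq, c.order_ι jj_sq hj1])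
  have hin : InT k = true := (hp.isConj_iff_inT hk.1 hk.2).1
    ((isConj_iff.2 ⟨g, hgk⟩ : IsConj J (c.ι k)).symm.trans ((hp.isConj_iff_inT jj_sq hj1).2 jj_inT.1))
  have hkt : k ≠ t 2 := fun e => by
    subst e
    have : J = T := by
      calc J = g⁻¹ * (g * J * g⁻¹) * g := by group
        _ = g⁻¹ * (g * T) := by rw [hgk, hgT, mul_assoc]
        _ = T := inv_mul_cancel_left _ _
    exact jj_notMem (a := 2) (by norm_num) (c.ι_inj this ▸ t_mem le_rfl)
  obtain ⟨h, hhT, hh⟩ := fused_cent hp hk.1 hk.2 hkt hM hin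
  refine jj_not_to_u (f := h * g) (c := c) (by rw [mul_assoc, hgT, ← mul_assoc, hhT, mul_assoc]) ?_
  calc h * g * J * (h * g)⁻¹ = h * (g * J * g⁻¹) * h⁻¹ := by group
    _ = U := by rw [hgk, hh]

/-- The centraliser modulo its odd core. -/
structure CCore (H : Type v) [Group H] extends Typed H 2 where
  K : Subgroup H
  K_normal : K.Normal
  K_index : K.index = 2
  mem_K : ∀ q, toTyped.ι q ∈ K ↔ q ∈ M0 (2 ^ 2)
  central : toTyped.ι (t 2) ∈ center H
  noOdd : Cfsg.oddCore H = ⊥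
  fused : ∀ k : M4, k * k = 1 → k ≠ 1 → k ≠ t 2 → k ∈ M0 (2 ^ 2) → InT k = true →
    ∃ g ∈ K, g * toTyped.ι k * g⁻¹ = toTyped.ι (u 2)
  sep : ∀ k l : M4, k * k = 1 → k ≠ 1 → l * l = 1 → l ≠ 1 → IsConj (toTyped.ι k) (toTyped.ι l) → InT k = InT l

theorem M0_pairs : ∀ q : M4, od (q.x + q.y) = false → ∃ k : M4, k * k = 1 ∧ od (k.x + k.y) = false ∧
    k * q * (k * q) = 1 := by decide +kernel

theorem M0_iff {q : M4} : q ∈ M0 (2 ^ 2) ↔ od (q.x + q.y) = false := by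
  have key : ∀ x : ZMod (2 ^ 2), (∃ z, x = z + z) ↔ od x = false := by decide +kernel
  exact key _

theorem inner_class : ∀ w : M4, w * w = 1 → w ≠ 1 → InT w = false →
    od (w.x + w.y) = false ∧
    (∃ a b : M4, a * w = w * a ∧ b * w = w * b ∧ a * b * a⁻¹ * b⁻¹ = t 2) ∧
    (Finset.univ.filter fun q : M4 => q * w = w * q).card = 16 := by decide +kernel

theorem i0_comm : ∀ p q : M4, p * i0 = i0 * p → q * i0 = i0 * q →
    p * q * p⁻¹ * q⁻¹ = 1 ∨ p * q * p⁻¹ * q⁻¹ = t 2 := by decide +kernel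

theorem i0_facts : i0 * i0 = 1 ∧ i0 ≠ (1 : M4) ∧ InT i0 = false ∧ r (2 ^ 2) * r' (2 ^ 2) = i0 ∧
    InT (r (2 ^ 2)) = false ∧ InT (r' (2 ^ 2)) = false ∧ (⟨1, 0, false, false⟩ : M4) * ⟨1, 0, false, false⟩ = u 2 := by
  decide +kernel

theorem inT_false_conj (hp : Pattern c) {k : M4} (hk : k * k = 1) (hk1 : k ≠ 1) (hin : InT k = false) :
    IsConj (c.ι (r (2 ^ 2))) (c.ι k) := by
  have h := conj_rep c hk hk1
  rcases (inT_rep k hk hk1).2 hin with e | e | e <;> rw [e] at h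
  exacts [h, hp.rr.trans h, hp.ri0.trans h]

/-- The 2-subgroups centralising an unfused involution of the Sylow subgroup have order at most 16. -/
theorem two_cent_le (hp : Pattern c) {k : M4} (hk : k * k = 1) (hk1 : k ≠ 1) (hin : InT k = false)
    {P : Subgroup G} (hP : IsPGroup 2 P) (hPk : ∀ x ∈ P, x * c.ι k = c.ι k * x) : Nat.card P ≤ 16 := by
  classical
  haveI : Fact (Nat.Prime 2) := ⟨Nat.prime_two⟩
  set X := P ⊔ zpowers (c.ι k) with hX
  have hkc : ∀ x ∈ X, x * c.ι k = c.ι k * x := fun x hx => by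
    have hle : X ≤ centralizer ({c.ι k} : Set G) := sup_le (fun x hx => mem_centralizer_singleton_iff.2 (hPk x hx))
      (zpowers_le.2 (mem_centralizer_singleton_iff.2 rfl))
    exact mem_centralizer_singleton_iff.1 (hle hx)
  have hXp : IsPGroup 2 X := hP.to_sup_of_normal_right' (c.S.2.to_le (zpowers_le.2 (c.ι_mem k))) fun x hx =>
    Cfsg.Lib.ZStarApps.mem_normalizer_of_maps fun y hy => by
      obtain ⟨i, rfl⟩ := mem_zpowers_iff.1 hy
      rw [((show Commute x (c.ι k) from hPk x hx).zpow_right i).eq, mul_inv_cancel_right]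
      exact hy
  obtain ⟨g, -, hg⟩ := Cfsg.Lib.TwoFusion.exists_sylow_conj (H := ⊤) c.S le_top hXp le_top
  obtain ⟨w, hw⟩ := c.exists_ι (hg (c.ι k) (mem_sup_right (mem_zpowers _)))
  have ho : orderOf (c.ι w) = 2 := by rw [hw, ← MulAut.conj_apply, MulEquiv.orderOf_eq, c.order_ι hk hk1]
  obtain ⟨hww, hw1⟩ := c.inv_pre ho
  have hwin : InT w = false := by
    rw [← Bool.not_eq_true, ← hp.isConj_iff_inT hww hw1]
    intro h
    refine Bool.false_ne_true (hin.symm.trans ((hp.isConj_iff_inT hk hk1).1 ?_))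
    exact (isConj_iff.2 ⟨g, hw.symm⟩ : IsConj (c.ι k) (c.ι w)).trans h
  obtain ⟨-, -, hcard⟩ := inner_class w hww hw1 hwin
  rw [← hcard, ← Fintype.card_coe, ← Nat.card_eq_fintype_card]
  have hpre : ∀ x : P, ∃ q : {q : M4 // q ∈ Finset.univ.filter fun q : M4 => q * w = w * q},
      c.ι (q : M4) = g * (x : G) * g⁻¹ := fun x => by
    obtain ⟨q, hq⟩ := c.exists_ι (hg x (mem_sup_left x.2))
    refine ⟨⟨q, Finset.mem_filter.2 ⟨Finset.mem_univ _, c.ι_inj ?_⟩⟩, hq⟩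
    rw [map_mul, map_mul, hq, hw]
    exact ((show Commute (x : G) (c.ι k) from hPk x x.2).map (MulAut.conj g).toMonoidHom).eq
  choose f hf using hpre
  refine Nat.card_le_card_of_injective f fun x y h => Subtype.ext ?_
  exact mul_left_cancel (mul_right_cancel (((hf x).symm.trans (by rw [h])).trans (hf y)))

/-- The unfused involutions of the Sylow subgroup are conjugate in the centraliser of `t`. -/
theorem unfused_cent (hp : Pattern c) {k : M4} (hk : k * k = 1) (hk1 : k ≠ 1) (hin : InT k = false) :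
    ∃ g : G, g * T = T * g ∧ g * c.ι k * g⁻¹ = c.ι i0 := by
  classical
  haveI : Fact (Nat.Prime 2) := ⟨Nat.prime_two⟩
  obtain ⟨h2, h1, hi0, -⟩ := i0_facts
  obtain ⟨g, hg⟩ := isConj_iff.1 ((inT_false_conj hp hk hk1 hin).symm.trans (inT_false_conj hp h2 h1 hi0))
  set C := centralizer ({c.ι i0} : Set G) with hC
  set P₀ : Subgroup G := (c.S : Subgroup G) ⊓ C with hP₀
  obtain ⟨P, hP⟩ := ((c.S.2.to_le (inf_le_left : P₀ ≤ _)).of_equiv
    (subgroupOfEquivOfLe (inf_le_right : P₀ ≤ C)).symm).exists_le_sylow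
  have hle : P₀ ≤ (P : Subgroup C).map C.subtype := fun x hx => ⟨⟨x, hx.2⟩, hP hx, rfl⟩
  have h16 : 16 ≤ Nat.card P₀ := by
    obtain ⟨-, -, hcard⟩ := inner_class i0 h2 h1 hi0
    rw [← hcard, ← Fintype.card_coe, ← Nat.card_eq_fintype_card]
    refine Nat.card_le_card_of_injective (fun q => (⟨c.ι (q : M4), c.ι_mem _, mem_centralizer_singleton_iff.2 (by
      rw [← map_mul, ← map_mul, (Finset.mem_filter.1 q.2).2])⟩ : P₀)) fun x y h => ?_
    exact Subtype.ext (c.ι_inj (congrArg (fun z : P₀ => (z : G)) h))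
  have heq : P₀ = (P : Subgroup C).map C.subtype := eq_of_le_of_card_ge hle ((two_cent_le hp h2 h1 hi0
    (P.2.map C.subtype) fun x hx => mem_centralizer_singleton_iff.1 (map_subtype_le _ hx)).trans h16)
  set X : Subgroup G := ((c.S : Subgroup G) ⊓ centralizer ({c.ι k} : Set G)).map (MulAut.conj g).toMonoidHom
  have hXC : X ≤ C := by
    rintro _ ⟨x, hx, rfl⟩
    refine mem_centralizer_singleton_iff.2 ?_
    rw [← hg]
    exact ((show Commute x (c.ι k) from mem_centralizer_singleton_iff.1 hx.2).map (MulAut.conj g).toMonoidHom).eq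
  obtain ⟨e, he⟩ := Cfsg.Lib.InvolCalc.exists_conj_le P
    (((c.S.2.to_le inf_le_left).map (MulAut.conj g).toMonoidHom).of_equiv (subgroupOfEquivOfLe hXC).symm)
  obtain ⟨a, b, ha, hb, hab⟩ := (inner_class k hk hk1 hin).2.1
  obtain ⟨d, hd⟩ : ∃ d : C, ∀ x ∈ X.subgroupOf C, d * x * d⁻¹ ∈ (P : Subgroup C) :=
    ⟨e⁻¹, fun x hx => by rw [inv_inv]; exact he x hx⟩
  have himg : ∀ {q : M4}, q * k = k * q → ∃ q', q' * i0 = i0 * q' ∧ c.ι q' = (d : G) * g * c.ι q * ((d : G) * g)⁻¹ :=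
    fun {q} hq => by
    have hm : g * c.ι q * g⁻¹ ∈ X := ⟨_, ⟨c.ι_mem q, mem_centralizer_singleton_iff.2 (by
      rw [← map_mul, ← map_mul, hq])⟩, rfl⟩
    have h' : (d : G) * (g * c.ι q * g⁻¹) * (d : G)⁻¹ ∈ P₀ := heq ▸ ⟨_, hd ⟨_, hXC hm⟩ hm, rfl⟩
    obtain ⟨q', hq'⟩ := c.exists_ι h'.1
    refine ⟨q', c.ι_inj ?_, by rw [hq']; group⟩
    rw [map_mul, map_mul, hq']
    exact mem_centralizer_singleton_iff.1 h'.2
  obtain ⟨a', ha', hae⟩ := himg ha
  obtain ⟨b', hb', hbe⟩ := himg hb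
  have hct : c.ι (a' * b' * a'⁻¹ * b'⁻¹) = (d : G) * g * T * ((d : G) * g)⁻¹ := by
    rw [← hab]; simp only [map_mul, map_inv, hae, hbe]; group
  refine ⟨(d : G) * g, ?_, ?_⟩
  · rcases i0_comm a' b' ha' hb' with e | e <;> rw [e] at hct
    · exfalso
      rw [map_one] at hct
      exact t_sq.2.1 (c.ι_inj ((conj_eq_one_iff.1 hct.symm).trans (map_one c.ι).symm))
    · exact mul_inv_eq_iff_eq_mul.1 hct.symm
  · calc (d : G) * g * c.ι k * ((d : G) * g)⁻¹ = (d : G) * (g * c.ι k * g⁻¹) * (d : G)⁻¹ := by group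
      _ = c.ι i0 := by rw [hg, mem_centralizer_singleton_iff.1 d.2, mul_inv_cancel_right]

/-- The setting in the centraliser modulo its odd core. -/
theorem exists_ccore (hp : Pattern c) : ∃ d : CCore (Qt T), ∀ q : M4,
    ∃ h : c.ι q ∈ centralizer ({T} : Set G), d.toTyped.ι q = qm T ⟨c.ι q, h⟩ := by
  classical
  haveI : Fact (Nat.Prime 2) := ⟨Nat.prime_two⟩
  set C := centralizer ({T} : Set G) with hC
  have hSC : (c.S : Subgroup G) ≤ C := fun q hq => by
    obtain ⟨q, rfl⟩ := c.exists_ι hq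
    exact mem_centralizer_singleton_iff.2 (commute_T c q)
  let φ : M4 →* C := c.ι.codRestrict C fun q => hSC (c.ι_mem q)
  have hφv : ∀ q, ((φ q : C) : G) = c.ι q := fun _ => rfl
  have hφi : Function.Injective φ := fun p q h => c.ι_inj (show ((φ p : C) : G) = ((φ q : C) : G) by rw [h])
  set P : Sylow 2 C := c.S.subtype hSC
  have hφP : φ.range = (P : Subgroup C) := by
    refine le_antisymm ?_ fun x hx => ?_
    · rintro _ ⟨q, rfl⟩; exact c.ι_mem q
    · obtain ⟨q, hq⟩ := c.exists_ι (g := (x : G)) hx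
      exact ⟨q, Subtype.ext hq⟩
  set Q : Subgroup C := (M0 (2 ^ 2)).map φ with hQ
  have hQP : Q ≤ (P : Subgroup C) := hφP ▸ Subgroup.map_le_range _ _
  have hQi : Q.relIndex (P : Subgroup C) = 2 := by
    rw [← hφP, MonoidHom.range_eq_map, hQ, Subgroup.relIndex_map_map_of_injective _ _ hφi,
      relIndex_top_right, M0_index (by norm_num)]
  have hjord : orderOf (φ (jj 2)) = 2 := by
    rw [orderOf_injective φ hφi]
    exact orderOf_eq_prime (by rw [pow_two, jj_sq]) (fun e => jj_notMem (a := 2) (by norm_num) (e ▸ one_mem _))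
  have hjQ : φ (jj 2) ∉ Q := by
    rintro ⟨q, hq, he⟩
    exact jj_notMem (a := 2) (by norm_num) (hφi he ▸ hq)
  obtain ⟨M, hMn, hM2, hjM⟩ : ∃ M : Subgroup C, M.Normal ∧ M.index = 2 ∧ φ (jj 2) ∉ M := by
    rcases Cfsg.Agent.S0111.result P Q hQP hQi (φ (jj 2)) hjord (hφP ▸ ⟨jj 2, rfl⟩) hjQ with h | ⟨g, hg⟩
    · exact h
    · obtain ⟨k, hk, he⟩ := hg
      exact (jj_not_fused hp (g := (g : G)) (mem_centralizer_singleton_iff.1 g.2) hk
        (congrArg Subtype.val he).symm).elim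
  haveI := hMn
  obtain ⟨h2, h1, hi0, hrr, hr, hr', husq⟩ := i0_facts
  have hpar : ∀ {g : C} {a b : M4}, g * φ a * g⁻¹ = φ b → (φ a ∈ M ↔ φ b ∈ M) := fun {g a b} h => by
    rw [← h]
    refine ⟨fun h => hMn.conj_mem _ h g, fun h => ?_⟩
    have := hMn.conj_mem _ h g⁻¹
    rwa [show g⁻¹ * (g * φ a * g⁻¹) * g⁻¹⁻¹ = φ a by group] at this
  have hfused : ∀ k : M4, k * k = 1 → k ≠ 1 → k ≠ t 2 → k ∈ M0 (2 ^ 2) → InT k = true →
      ∃ g : C, g * φ k * g⁻¹ = φ (u 2) := fun k hk hk1 hkt hM hin => by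
    obtain ⟨g, hg, hg'⟩ := fused_cent hp hk hk1 hkt hM hin
    exact ⟨⟨g, mem_centralizer_singleton_iff.2 hg⟩, Subtype.ext hg'⟩
  have hun : ∀ k : M4, k * k = 1 → k ≠ 1 → InT k = false → ∃ g : C, g * φ k * g⁻¹ = φ i0 := fun k hk hk1 hin => by
    obtain ⟨g, hg, hg'⟩ := unfused_cent hp hk hk1 hin
    exact ⟨⟨g, mem_centralizer_singleton_iff.2 hg⟩, Subtype.ext hg'⟩
  have huM : φ (u 2) ∈ M := by rw [← husq, map_mul]; exact mul_self_mem_of_index_two hM2 _
  have htM : φ (t 2) ∈ M := by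
    rw [← elem_facts.2.1, map_mul]; exact mul_self_mem_of_index_two hM2 _
  have hi0M : φ i0 ∈ M := by
    obtain ⟨g, hg⟩ := hun _ t_sq.2.2.1 t_sq.2.2.2.1 hr
    obtain ⟨g', hg'⟩ := hun _ t_sq.2.2.2.2.1 t_sq.2.2.2.2.2.1 hr'
    rw [← hrr, map_mul, mul_mem_iff_of_index_two hM2]
    exact (hpar hg).trans (hpar hg').symm
  have hinv : ∀ k : M4, k * k = 1 → k ∈ M0 (2 ^ 2) → φ k ∈ M := fun k hk hkM => by
    by_cases hk1 : k = 1
    · rw [hk1, map_one]; exact one_mem M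
    by_cases hkt : k = t 2
    · rw [hkt]; exact htM
    cases hin : InT k
    · obtain ⟨g, hg⟩ := hun k hk hk1 hin
      exact (hpar hg).2 hi0M
    · obtain ⟨g, hg⟩ := hfused k hk hk1 hkt hkM hin
      exact (hpar hg).2 huM
  have hM0 : ∀ q ∈ M0 (2 ^ 2), φ q ∈ M := fun q hq => by
    obtain ⟨k, hk, hkp, hkq⟩ := M0_pairs q (M0_iff.1 hq)
    have h := mul_mem (hinv k hk (M0_iff.2 hkp)) (hinv (k * q) hkq (mul_mem (M0_iff.2 hkp) hq))
    rwa [← map_mul, ← mul_assoc, hk, one_mul] at h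
  have hMiff : ∀ q, φ q ∈ M ↔ q ∈ M0 (2 ^ 2) := fun q => by
    refine ⟨fun h => ?_, hM0 q⟩
    by_contra hq
    have h' : φ (q * jj 2) ∈ M := hM0 _ (mul_mem_M0_of hq (jj_notMem (a := 2) (by norm_num)))
    rw [map_mul, mul_mem_iff_of_index_two hM2] at h'
    exact hjM (h'.1 h)
  -- the quotient
  set O := Cfsg.pPrimeCore 2 C with hO
  set π := qm T with hπ
  have hπs : Function.Surjective π := QuotientGroup.mk'_surjective _
  have hOodd : Odd (Nat.card O) :=
    Nat.coprime_two_right.1 (Cfsg.Lib.Components.coprime_card_pPrimeCore 2)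
  have hOM : O ≤ M := fun x hx => by
    have h : orderOf (x : C ⧸ M) ∣ 2 := by
      have := _root_.orderOf_dvd_natCard (x : C ⧸ M)
      rwa [← index_eq_card, hM2] at this
    refine (QuotientGroup.eq_one_iff x).1 (orderOf_eq_one_iff.1 (Nat.eq_one_of_dvd_coprimes ?_
      (orderOf_map_dvd (QuotientGroup.mk' M) x) h))
    exact (Nat.coprime_two_right.2 hOodd).coprime_dvd_left (Subgroup.orderOf_dvd_natCard _ hx)
  set ψ : M4 →* Qt T := π.comp φ with hψ
  have hψi : Function.Injective ψ := (injective_iff_map_eq_one ψ).2 fun q hq => by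
    have hqO : φ q ∈ O := (QuotientGroup.eq_one_iff _).1 hq
    obtain ⟨i, hi⟩ := P.2 ⟨φ q, hφP ▸ ⟨q, rfl⟩⟩
    refine hφi ((two_eq_one_of_odd hOodd hqO (k := i) ?_).trans (map_one φ).symm)
    exact congrArg Subtype.val hi
  set P' : Sylow 2 (Qt T) := P.mapSurjective hπs
  have hψP : ψ.range = (P' : Subgroup (Qt T)) := by
    rw [hψ, MonoidHom.range_comp, hφP]; rfl
  let T' : Typed (Qt T) 2 := ⟨P', (MonoidHom.ofInjective hψi).trans (MulEquiv.subgroupCongr hψP), le_rfl⟩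
  have hι : ∀ q, T'.ι q = π (φ q) := fun q => rfl
  have hker : π.ker ≤ M := by rw [hπ, QuotientGroup.ker_mk']; exact hOM
  refine ⟨{ toTyped := T', K := M.map π, K_normal := hMn.map π hπs, K_index := ?_,
            mem_K := fun q => ?_, central := ?_, noOdd := ?_, fused := ?_, sep := ?_ },
    fun q => ⟨hSC (c.ι_mem q), hι q⟩⟩
  · rw [index_map_eq _ hπs hker, hM2]
  · rw [hι, ← hMiff q, ← mem_comap, comap_map_eq_self hker]
  · refine mem_center_iff.2 fun x => ?_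
    obtain ⟨g, rfl⟩ := hπs x
    rw [hι, ← map_mul, ← map_mul]
    refine congrArg π (Subtype.ext ?_)
    simp only [Subgroup.coe_mul, hφv]
    exact mem_centralizer_singleton_iff.1 g.2
  · exact Cfsg.Lib.Components.pPrimeCore_quotient_eq_bot
  · intro k hk hk1 hkt hM hin
    obtain ⟨g, hg⟩ := hfused k hk hk1 hkt hM hin
    by_cases hgM : g ∈ M
    · exact ⟨π g, mem_map_of_mem π hgM, by rw [hι, hι, ← map_inv, ← map_mul, ← map_mul, hg]⟩
    · refine ⟨π (φ (jj 2) * g), mem_map_of_mem π ((mul_mem_iff_of_index_two hM2).2 (iff_of_false hjM hgM)), ?_⟩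
      rw [hι, hι, ← map_inv, ← map_mul, ← map_mul]
      refine congrArg π ?_
      calc φ (jj 2) * g * φ k * (φ (jj 2) * g)⁻¹ = φ (jj 2) * (g * φ k * g⁻¹) * (φ (jj 2))⁻¹ := by group
        _ = φ (u 2) := by rw [hg, ← map_mul, jj_u, map_mul, mul_inv_cancel_right]
  · intro k l hk hk1 hl hl1 hc
    rw [hι, hι] at hc
    obtain ⟨x, hx⟩ := isConj_iff.1 hc
    obtain ⟨g, rfl⟩ := hπs x
    rw [← map_inv, ← map_mul, ← map_mul] at hx
    set y := g * φ k * g⁻¹ with hy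
    have hl2 : φ l * φ l = 1 := by rw [← map_mul, hl, map_one]
    have hO' : y * φ l ∈ O := by
      refine (QuotientGroup.eq_one_iff _).1 ?_
      show π (y * φ l) = 1
      rw [map_mul, hx, ← map_mul, hl2, map_one]
    have ho : Odd (orderOf ((y : G) * (c.ι l))) := by
      have h := hOodd.of_dvd_nat (Subgroup.orderOf_dvd_natCard _ hO')
      rwa [← Subgroup.orderOf_coe] at h
    have hy2 : orderOf (y : G) = 2 := by
      show orderOf ((g : G) * c.ι k * (g : G)⁻¹) = 2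
      rw [← MulAut.conj_apply, MulEquiv.orderOf_eq, c.order_ι hk hk1]
    obtain ⟨e, -, he⟩ := Cfsg.Lib.InvolCalc.conj_of_odd hy2 (c.order_ι hl hl1) ho
    have hkl : IsConj (c.ι k) (c.ι l) :=
      (isConj_iff.2 ⟨g, rfl⟩ : IsConj (c.ι k) (y : G)).trans (isConj_iff.2 ⟨e, he⟩)
    rw [Bool.eq_iff_iff, ← hp.isConj_iff_inT hk hk1, ← hp.isConj_iff_inT hl hl1]
    exact ⟨hkl.symm.trans, hkl.trans⟩

end Cfsg.Lib.MTwelveType
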