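import Cfsg.Agent.MTwelveType.Quot
import Cfsg.Agent.LFourType.Moved
import Cfsg.Agent.S0217
import Cfsg.Agent.S1175

/-!
# The centraliser of a central involution has no odd core

The cores at the seven fused involutions of an elementary group of order eight generate an odd subgroup
whose normaliser would otherwise give a strongly embedded subgroup.
-/

set_option autoImplicit false
set_option linter.unusedSectionVars false
set_option linter.style.haveILetI false
set_option maxRecDepth 100000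
set_option maxHeartbeats 800000
set_option synthInstance.maxSize 4096
set_option synthInstance.maxHeartbeats 400000

namespace Cfsg.Lib.MTwelveType

open Subgroup
open Cfsg.Lib.GTwoType Cfsg.Lib.GTwoType.Mdl
open Cfsg.Lib.GTwoCent (M0 jj commute_T uu tt)
open Cfsg.Lib.Walter (Oc Qt qm mem_Oc)
open Cfsg.Lib.LFourType (conj_Oc Oc_normalized odd_Oc le_of_four' Oc_le)

universe v

/-- The elementary group of order eight. -/
def EM : Subgroup M4 where
  carrier := {q | InE q}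
  one_mem' := by show InE (1 : M4); decide +kernel
  mul_mem' := fun hp hq => (inE_mul _ hp _ hq).1
  inv_mem' := fun {p} hp => by
    show InE p⁻¹
    rw [inv_eq_of_mul_eq_one_right (show p * p = 1 from hp.2.1)]
    exact hp

theorem EM_facts : (∀ q : M4, InE q → q ≠ 1 → InT q = true) ∧ InE (t 2) ∧ InE (u 2) ∧
    (Finset.univ.filter fun q : M4 => InE q).card = 8 ∧
    (∀ q : M4, InT q = true → q * q = 1 → q ≠ 1 → q ≠ t 2 →
      InT (t 2 * q) = true ∧ t 2 * q * (t 2 * q) = 1 ∧ t 2 * q ≠ 1) ∧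
    InT i01 = true ∧ InE i1 ∧ i1 ≠ t 2 ∧ Inn i1 ∧
    (⟨1, 0, false, false⟩ : M4) * i0 = i01 := by decide +kernel

theorem u_image : ∀ q p : M4, q.s = false → p.s = false → q * q = t 2 → p * p = 1 → p * q ≠ q * p →
    InT p = false → InE (q * p) ∧ q * p ≠ 1 ∧ q * p ≠ t 2 := by decide +kernel

variable {G : Type v} [Group G] [Finite G] {c : Typed G 2}

local notation "T" => c.ι (t 2)
local notation "U" => c.ι (u 2)

theorem ι_cent (q : M4) : c.ι q ∈ centralizer ({T} : Set G) := mem_centralizer_singleton_iff.2 (commute_T c q)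

/-- The elementary group inside the group. -/
def EE (c : Typed G 2) : Subgroup G := EM.map c.ι

theorem mem_EE {x : G} : x ∈ EE c ↔ ∃ q, InE q ∧ c.ι q = x := Subgroup.mem_map

theorem EE_comm {a b : G} (ha : a ∈ EE c) (hb : b ∈ EE c) : a * b = b * a := by
  obtain ⟨p, hp, rfl⟩ := mem_EE.1 ha
  obtain ⟨q, hq, rfl⟩ := mem_EE.1 hb
  rw [← map_mul, ← map_mul, (inE_mul p hp q hq).2]

theorem EE_sq {a : G} (ha : a ∈ EE c) : a * a = 1 := by
  obtain ⟨p, hp, rfl⟩ := mem_EE.1 ha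
  rw [← map_mul, hp.2.1, map_one]

theorem card_EE : Nat.card (EE c) = 8 := by
  have h : Nat.card ↥(Finset.univ.filter fun q : M4 => InE q) = Nat.card (EE c) :=
    (Nat.card_congr (Equiv.subtypeEquivRight fun q => Finset.mem_filter.trans (and_iff_right (Finset.mem_univ q)))).trans
      (Nat.card_congr ((EM).equivMapOfInjective c.ι c.ι_inj).toEquiv)
  rw [← h, Nat.card_eq_finsetCard]
  exact EM_facts.2.2.2.1

theorem EE_fused (hp : Pattern c) {a : G} (ha : a ∈ EE c) (ha1 : a ≠ 1) : ∃ g : G, g * a * g⁻¹ = T := by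
  obtain ⟨q, hq, rfl⟩ := mem_EE.1 ha
  have hq1 : q ≠ 1 := fun e => ha1 (by rw [e, map_one])
  exact isConj_iff.1 ((hp.isConj_iff_inT hq.2.1 hq1).2 (EM_facts.1 q hq hq1))

variable {D : CCore (Qt (c.ι (t 2)))} (hD : ∀ q : M4, ∃ h : c.ι q ∈ centralizer ({c.ι (t 2)} : Set G),
  D.toTyped.ι q = qm (c.ι (t 2)) ⟨c.ι q, h⟩)

include hD in
theorem qm_ι (q : M4) : qm T ⟨c.ι q, ι_cent q⟩ = D.ι q := (hD q).2.symm

/-- An odd subgroup of the centraliser normalised by a non-central element of the inner part lies in the core. -/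
theorem odd_le_Oc {X : Subgroup G} (hX : X ≤ centralizer ({T} : Set G)) (ho : Odd (Nat.card X)) {y : G}
    (hy : y ∈ centralizer ({T} : Set G)) {q : M4} (hq : Inn q) (hq1 : ¬ Eqv q 1) (hyq : qm T ⟨y, hy⟩ = D.ι q)
    (hn : ∀ x ∈ X, y * x * y⁻¹ ∈ X) : X ≤ Oc T := by
  haveI : Fact (Nat.Prime 2) := ⟨Nat.prime_two⟩
  intro x hx
  set x' : ↥(centralizer ({T} : Set G)) := ⟨x, hX hx⟩
  set y' : ↥(centralizer ({T} : Set G)) := ⟨y, hy⟩
  have hodd : ∀ z : ↥(centralizer ({T} : Set G)), (z : G) ∈ X → Odd (orderOf (qm T z)) := fun z hz => by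
    have h := ho.of_dvd_nat (Subgroup.orderOf_dvd_natCard _ hz)
    rw [Subgroup.orderOf_coe] at h
    exact h.of_dvd_nat (orderOf_map_dvd (qm T) z)
  have htriv : ∀ z : ↥(centralizer ({T} : Set G)), (z : G) ∈ X → qm T z ∈ D.Q0 → qm T z = 1 := fun z hz hQ => by
    obtain ⟨k, hk⟩ := D.isPGroup_Q0 ⟨_, hQ⟩
    exact orderOf_eq_one_iff.1 (Nat.eq_one_of_dvd_coprimes ((Nat.coprime_two_left.2 (hodd z hz)).pow_left k)
      (orderOf_dvd_of_pow_eq_one (congrArg Subtype.val hk)) dvd_rfl)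
  refine mem_Oc.2 ⟨hX hx, ?_⟩
  by_contra hne
  have hcm : qm T (y' * x' * y'⁻¹ * x'⁻¹) = 1 := by
    refine htriv _ (mul_mem (hn x hx) (inv_mem hx)) ?_
    have hyQ : qm T y' ∈ D.Q0 := D.mem_Q0.2 ⟨q, hq, hyq.symm⟩
    rw [map_mul, map_mul, map_mul, map_inv, map_inv, mul_assoc, mul_assoc, ← mul_assoc (qm T x')]
    exact mul_mem hyQ (D.Q0_normal.conj_mem _ (inv_mem hyQ) _)
  rw [map_mul, map_mul, map_mul, map_inv, map_inv, mul_inv_eq_one, mul_inv_eq_iff_eq_mul, hyq] at hcm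
  rcases D.fixed_le (hodd x' hx) (fun h => hne (htriv x' hx h)) hq hcm.symm with e | e
  · exact hq1 (Or.inl e)
  · exact hq1 (Or.inr (by rw [e, mul_one]))

include hD in
/-- The balance at the fused involutions. -/
theorem balance (hp : Pattern c) {a b : G} (ha : a ∈ EE c) (hb : b ∈ EE c) (hb1 : b ≠ 1) :
    Oc a ⊓ centralizer ({b} : Set G) ≤ Oc b := by
  classical
  haveI : Fact (Nat.Prime 2) := ⟨Nat.prime_two⟩
  obtain ⟨g, hg⟩ := EE_fused hp hb hb1
  set X := (Oc a ⊓ centralizer ({b} : Set G)).map (MulAut.conj g).toMonoidHom with hX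
  set E' := (EE c).map (MulAut.conj g).toMonoidHom with hE'
  have hXC : X ≤ centralizer ({T} : Set G) := by
    rintro _ ⟨x, hx, rfl⟩
    rw [← hg]
    exact mem_centralizer_singleton_iff.2
      ((show Commute x b from mem_centralizer_singleton_iff.1 hx.2).map (MulAut.conj g).toMonoidHom).eq
  have hE'C : E' ≤ centralizer ({T} : Set G) := by
    rintro _ ⟨x, hx, rfl⟩
    rw [← hg]
    exact mem_centralizer_singleton_iff.2
      ((show Commute x b from EE_comm hx hb).map (MulAut.conj g).toMonoidHom).eq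
  have hXodd : Odd (Nat.card X) := by
    rw [hX, card_map_of_injective (MulEquiv.injective _)]
    exact (odd_Oc a).of_dvd_nat (Subgroup.card_dvd_of_le inf_le_left)
  have hnorm : ∀ y ∈ E', ∀ x ∈ X, y * x * y⁻¹ ∈ X := by
    rintro _ ⟨e, he, rfl⟩ _ ⟨x, hx, rfl⟩
    refine ⟨e * x * e⁻¹, ⟨(mem_normalizer_iff.1
      (Oc_normalized (mem_centralizer_singleton_iff.2 (EE_comm he ha))) x).1 hx.1,
      mem_centralizer_singleton_iff.2 ?_⟩, by simp only [map_mul, map_inv]⟩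
    exact (((show Commute e b from EE_comm he hb).mul_left
      (show Commute x b from mem_centralizer_singleton_iff.1 hx.2)).mul_left
      (show Commute e b from EE_comm he hb).inv_left).eq
  -- a non-central element of `E'` in the inner part
  let f : ↥E' →* Equiv.Perm (Fin 3) := D.perm.comp ((qm T).comp (Subgroup.inclusion hE'C))
  have hsq : ∀ y : ↥E', y * y = 1 := fun ⟨y, x, hx, e⟩ => Subtype.ext (by
    show y * y = 1
    rw [← e, ← map_mul, EE_sq hx, map_one])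
  have hker : 4 ≤ Nat.card f.ker := by
    have h := f.ker.card_mul_index
    rw [index_ker, show Nat.card ↥E' = 8 from (card_map_of_injective (MulEquiv.injective _)).trans card_EE] at h
    have h2 : Nat.card f.range ∣ 8 := Dvd.intro_left _ h
    have h6 : Nat.card f.range ∣ 6 := by
      have := f.range.card_subgroup_dvd_card
      rwa [Nat.card_perm, Nat.card_fin] at this
    have h3 := Nat.dvd_gcd h2 h6
    rw [show Nat.gcd 8 6 = 2 from rfl] at h3
    rcases (Nat.dvd_prime Nat.prime_two).1 h3 with e | e <;> rw [e] at h <;> omega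
  obtain ⟨y, hy, q, hq, hq1, hyq⟩ : ∃ y ∈ E', ∃ q, Inn q ∧ ¬ Eqv q 1 ∧ ∃ h : y ∈ centralizer ({T} : Set G),
      qm T ⟨y, h⟩ = D.ι q := by
    by_contra hcon
    rw [not_exists] at hcon
    replace hcon : ∀ y ∈ E', ∀ q, Inn q → ¬ Eqv q 1 → ∀ h : y ∈ centralizer ({T} : Set G),
        qm T ⟨y, h⟩ ≠ D.ι q := fun y hy q hq h1 h e => hcon y ⟨hy, q, hq, h1, h, e⟩
    have hinto : ∀ y : f.ker, ∃ b : Fin 2, qm T ⟨((y : ↥E') : G), hE'C (y : ↥E').2⟩ = D.ι (t 2) ^ (b : ℕ) := fun y => by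
      have hyk : qm T ⟨((y : ↥E') : G), hE'C (y : ↥E').2⟩ ∈ D.perm.ker := y.2
      rw [D.perm_ker] at hyk
      obtain ⟨q, hq, he⟩ := D.mem_Q0.1 hyk
      by_cases h1 : Eqv q 1
      · rcases h1 with rfl | h1
        · exact ⟨0, by rw [Fin.val_zero, pow_zero, ← map_one D.ι]; exact he.symm⟩
        · rw [mul_one] at h1
          subst h1
          exact ⟨1, by rw [Fin.val_one, pow_one]; exact he.symm⟩
      · exact absurd he.symm (hcon _ (y : ↥E').2 q hq h1 (hE'C (y : ↥E').2))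
    choose b hb using hinto
    have := Nat.card_le_card_of_injective b fun y z h => by
      refine Subtype.ext ?_
      have e : qm T ⟨((y : ↥E') : G), hE'C (y : ↥E').2⟩ = qm T ⟨((z : ↥E') : G), hE'C (z : ↥E').2⟩ := by
        rw [hb y, hb z, h]
      have hm : ((y : ↥E') : G)⁻¹ * ((z : ↥E') : G) ∈ Oc T :=
        mem_Oc.2 ⟨mul_mem (inv_mem (hE'C (y : ↥E').2)) (hE'C (z : ↥E').2), by
          show qm T (⟨_, hE'C (y : ↥E').2⟩⁻¹ * ⟨_, hE'C (z : ↥E').2⟩) = 1
          rw [map_mul, map_inv, e, inv_mul_cancel]⟩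
      exact Subtype.ext (inv_mul_eq_one.1 (Cfsg.Lib.LFourType.eq_one_of_odd hm
        (congrArg Subtype.val (hsq ((y : ↥E')⁻¹ * (z : ↥E'))))))
    rw [Nat.card_fin] at this
    omega
  obtain ⟨hyC, hyq⟩ := hyq
  have hle := odd_le_Oc hXC hXodd hyC hq hq1 hyq (hnorm y hy)
  intro x hx
  have h := conj_Oc g⁻¹ T (hle ⟨x, hx, rfl⟩)
  rw [show g⁻¹ * T * g⁻¹⁻¹ = b by rw [← hg]; group] at h
  simpa [mul_assoc] using h

include hD in
/-- The centraliser of `t` carries the elementary group into itself modulo the core. -/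
theorem EE_map {g : G} (hg : g ∈ centralizer ({T} : Set G)) {q : M4} (hq : InE q) :
    ∃ q', InE q' ∧ qm T ⟨g, hg⟩ * D.ι q * (qm T ⟨g, hg⟩)⁻¹ = D.ι q' := by
  obtain ⟨σ, hσ, hσe⟩ := D.exists_map (D.maps (qm T ⟨g, hg⟩))
  exact ⟨σ q, hσ.inE hq, hσe q hq.1⟩

include hD in
/-- **No odd core.** -/
theorem core_trivial [IsSimpleGroup G] (hp : Pattern c)
    (hns : ∃ x y : G, orderOf x = 2 ∧ orderOf y = 2 ∧ ¬ IsConj x y) : Oc T = ⊥ := by
  classical
  haveI : Fact (Nat.Prime 2) := ⟨Nat.prime_two⟩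
  obtain ⟨hET, hEt, hEu, -, htq, hj, hEi, hit, hIi, hprod⟩ := EM_facts
  have hTE : T ∈ EE c := mem_EE.2 ⟨_, hEt, rfl⟩
  have hUE : U ∈ EE c := mem_EE.2 ⟨_, hEu, rfl⟩
  have hne1 : ∀ {q : M4}, q ≠ 1 → c.ι q ≠ 1 := fun h e => h (c.ι_inj (e.trans (map_one c.ι).symm))
  obtain ⟨hodd', hcut⟩ := Cfsg.Agent.S0217.result (EE c) (fun a ha b hb => EE_comm ha hb)
    (fun a ha => by rw [pow_two]; exact EE_sq ha) (by rw [card_EE]; norm_num) (fun a => Oc a)
    (fun a _ _ => Oc_le a)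
    (fun a _ _ h => Nat.not_even_iff_odd.2 (odd_Oc a) (even_iff_two_dvd.2 h))
    (fun a ha _ b hb x hx => (mem_normalizer_iff.1
      (Oc_normalized (mem_centralizer_singleton_iff.2 (EE_comm hb ha))) x).1 hx)
    (fun a _ _ => Cfsg.Agent.PF.isSolvable_of_odd _ (odd_Oc a))
    (fun a ha _ b hb hb1 => balance hD hp ha hb hb1)
  set W := ⨆ a : {a : G // a ∈ EE c ∧ a ≠ 1}, Oc (a : G) with hW
  have hodd : Odd (Nat.card W) := Nat.not_even_iff_odd.1 fun h => hodd' (even_iff_two_dvd.1 h)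
  have hle : ∀ a ∈ EE c, a ≠ 1 → Oc a ≤ W := fun a ha ha1 =>
    le_iSup (fun a : {a : G // a ∈ EE c ∧ a ≠ 1} => Oc (a : G)) ⟨a, ha, ha1⟩
  set M := normalizer (W : Set G) with hM
  have hnorm : ∀ {Z : Subgroup G}, Z ≤ EE c → W ≤ (⨆ a : {a : G // a ∈ Z ∧ a ≠ 1}, Oc (a : G)) →
      ∀ n : G, (∀ a ∈ Z, n * a * n⁻¹ ∈ Z) → n ∈ M := fun {Z} hZ hWZ n hn => by
    refine Cfsg.Lib.ZStarApps.mem_normalizer_of_maps fun x hx => ?_
    have h : (⨆ a : {a : G // a ∈ Z ∧ a ≠ 1}, Oc (a : G)) ≤ W.comap (MulAut.conj n).toMonoidHom :=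
      iSup_le fun ⟨a, ha, ha1⟩ y hy =>
        hle (n * a * n⁻¹) (hZ (hn a ha)) (fun e => ha1 (conj_eq_one_iff.1 e)) (conj_Oc n a hy)
    exact h (hWZ hx)
  have hEM : EE c ≤ M := fun n hn => hnorm le_rfl le_rfl n fun a ha => mul_mem (mul_mem hn ha) (inv_mem hn)
  -- the four-group
  set Z : Subgroup G := closure ({T, U} : Set G) with hZ
  have hTU : T * U = U * T := EE_comm hTE hUE
  have hZE : Z ≤ EE c := (closure_le _).2 (by rintro x (rfl | rfl) <;> assumption)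
  have hTZ : T ∈ Z := subset_closure (by simp)
  have hUZ : U ∈ Z := subset_closure (by simp)
  have hZ4 : 4 ≤ Nat.card Z := by
    let f : Fin 4 → M4 := ![1, t 2, u 2, t 2 * u 2]
    have hf : Function.Injective f := by decide +kernel
    have hfZ : ∀ i, c.ι (f i) ∈ Z := by
      intro i; fin_cases i
      · exact (map_one c.ι).symm ▸ one_mem Z
      · exact hTZ
      · exact hUZ
      · show c.ι (t 2 * u 2) ∈ Z
        rw [map_mul]; exact mul_mem hTZ hUZ
    calc 4 = Nat.card (Fin 4) := (Nat.card_fin 4).symm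
      _ ≤ _ := Nat.card_le_card_of_injective (fun i => (⟨c.ι (f i), hfZ i⟩ : Z))
        fun i j h => hf (c.ι_inj (a₁ := f i) (a₂ := f j) (congrArg (fun z : Z => (z : G)) h))
  have hWZ : W ≤ ⨆ a : {a : G // a ∈ Z ∧ a ≠ 1}, Oc (a : G) :=
    le_of_four' hZ4 (fun a ha b hb => EE_comm (hZE ha) (hZE hb)) (fun a ha => EE_sq (hZE ha)) hodd
      (hZE.trans hEM) fun e he he1 => (hcut e (hZE he) he1).le.trans
        (le_iSup (fun a : {a : G // a ∈ Z ∧ a ≠ 1} => Oc (a : G)) ⟨e, he, he1⟩)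
  -- the centraliser
  have hCM : centralizer ({T} : Set G) ≤ M := by
    intro g hg
    set C := centralizer ({T} : Set G)
    have hEC : EE c ≤ C := fun x hx => mem_centralizer_singleton_iff.2 (EE_comm hx hTE)
    set K : Subgroup C := ((EE c).subgroupOf C).map (qm T) |>.comap (qm T) with hK
    set R : Subgroup G := K.map C.subtype with hR
    obtain ⟨P, hP⟩ := ((c.S.2.to_le (show EE c ≤ _ by
      rintro _ ⟨q, -, rfl⟩; exact c.ι_mem q)).of_equiv (subgroupOfEquivOfLe (show EE c ≤ R from fun x hx =>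
        ⟨⟨x, hEC hx⟩, ⟨⟨x, hEC hx⟩, hx, rfl⟩, rfl⟩)).symm).exists_le_sylow
    have hPE : (P : Subgroup R).map R.subtype = EE c := by
      have hsub : EE c ≤ R := fun x hx => ⟨⟨x, hEC hx⟩, ⟨⟨x, hEC hx⟩, hx, rfl⟩, rfl⟩
      have hle' : EE c ≤ (P : Subgroup R).map R.subtype := fun x hx => ⟨⟨x, hsub hx⟩, hP hx, rfl⟩
      refine (eq_of_le_of_card_ge hle' ?_).symm
      rw [card_map_of_injective R.subtype_injective]
      have hpre : ∀ x : (P : Subgroup R), ∃ e : EE c, ∃ h : ((x : R) : G) ∈ C,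
          qm T ⟨((x : R) : G), h⟩ = qm T ⟨e, hEC e.2⟩ := fun x => by
        obtain ⟨k, hk, hkx⟩ := (x : R).2
        obtain ⟨⟨e, he'⟩, he, hek⟩ := hk
        refine ⟨⟨e, he⟩, hkx ▸ k.2, ?_⟩
        rw [hek]
        exact congrArg _ (Subtype.ext hkx.symm)
      choose f hf hfe using hpre
      refine Nat.card_le_card_of_injective f fun x y h => Subtype.ext (Subtype.ext ?_)
      have hm : ((x : R) : G)⁻¹ * ((y : R) : G) ∈ Oc T := mem_Oc.2 ⟨mul_mem (inv_mem (hf x)) (hf y), by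
        show qm T (⟨_, hf x⟩⁻¹ * ⟨_, hf y⟩) = 1
        rw [map_mul, map_inv, hfe, hfe, h, inv_mul_cancel]⟩
      obtain ⟨k, hk⟩ := P.2 (x⁻¹ * y)
      exact inv_mul_eq_one.1 (Cfsg.Lib.GTwoCent.two_eq_one_of_odd (odd_Oc _) hm
        (k := k) (congrArg (fun z : (P : Subgroup R) => ((z : R) : G)) hk))
    have himg : (EE c).map (MulAut.conj g).toMonoidHom ≤ R := by
      rintro _ ⟨x, hx, rfl⟩
      obtain ⟨q, hq, rfl⟩ := mem_EE.1 hx
      obtain ⟨q', hq', he⟩ := EE_map hD hg hq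
      refine ⟨⟨g * c.ι q * g⁻¹, mul_mem (mul_mem hg (ι_cent q)) (inv_mem hg)⟩,
        ⟨⟨c.ι q', ι_cent q'⟩, mem_EE.2 ⟨q', hq', rfl⟩, ?_⟩, rfl⟩
      rw [qm_ι hD, ← he, ← qm_ι hD, ← map_inv, ← map_mul, ← map_mul]
      rfl
    obtain ⟨d, hd⟩ := Cfsg.Lib.InvolCalc.exists_conj_le P
      (((c.S.2.to_le (show EE c ≤ _ by rintro _ ⟨q, -, rfl⟩; exact c.ι_mem q)).map
        (MulAut.conj g).toMonoidHom).of_equiv (subgroupOfEquivOfLe himg).symm)
    have hdg : (d : G)⁻¹ * g ∈ M := hnorm le_rfl le_rfl _ fun x hx => by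
      have hm : g * x * g⁻¹ ∈ (EE c).map (MulAut.conj g).toMonoidHom := ⟨x, hx, rfl⟩
      have h := hd ⟨_, himg hm⟩ hm
      rw [← hPE]
      exact ⟨_, h, by show (d : G)⁻¹ * (g * x * g⁻¹) * (d : G) = _; group⟩
    have hRM : R ≤ M := by
      rintro _ ⟨k, ⟨e, he, hek⟩, rfl⟩
      have hm : (k : G) * (e : G)⁻¹ ∈ Oc T := mem_Oc.2 ⟨mul_mem k.2 (inv_mem e.2), by
        show qm T (k * e⁻¹) = 1
        rw [map_mul, map_inv, hek, mul_inv_cancel]⟩
      have h := mul_mem (le_normalizer (hle T hTE (hne1 t_sq.2.1) hm) : (k : G) * (e : G)⁻¹ ∈ M) (hEM he)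
      show (k : G) ∈ M
      simpa using h
    simpa using mul_mem (hRM d.2) hdg
  -- an element moving `t` in the four-group
  obtain ⟨g, hg, hgS⟩ := c.exists_conj_cent hp.tu.symm
  obtain ⟨h11u, h11, h10u, h10, hiu, hprod', hnc, hi2, hi1, -, -, -, -⟩ := elem_facts
  have hcm : ∀ {q : M4}, q * u 2 = u 2 * q → Commute (c.ι q) U := fun {q} h => by
    rw [commute_iff_eq, ← map_mul, ← map_mul, h]
  obtain ⟨v, hv⟩ := c.exists_ι (hgS _ (c.ι_mem _) (hcm h11u))
  obtain ⟨q, hq⟩ := c.exists_ι (hgS _ (c.ι_mem _) (hcm h10u))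
  obtain ⟨p, hpp'⟩ := c.exists_ι (hgS _ (c.ι_mem _) (hcm hiu))
  have hvv : c.ι (v * v) = g * T * g⁻¹ := by rw [map_mul, hv, ← h11, map_mul]; group
  obtain ⟨hi, hne⟩ := c.inv_pre (q := v * v) (by rw [hvv, ← MulAut.conj_apply, MulEquiv.orderOf_eq, orderOf_T])
  have hvcase : v * v = u 2 ∨ v * v = u' 2 := (square_inv (by norm_num) v hne hi).resolve_left fun e => by
    have h : g * T * g⁻¹ = g * U * g⁻¹ := by rw [hg, ← hvv, e]
    exact absurd (c.ι_inj (mul_left_cancel (mul_right_cancel h))) (by decide +kernel)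
  have hs : ∀ {w z : M4}, c.ι z = g * c.ι w * g⁻¹ → z.s = false := fun {w z} hz => by
    have h : z * (v * v) = (v * v) * z := c.ι_inj (by
      rw [map_mul c.ι z, map_mul c.ι (v * v) z, hvv, hz]
      calc g * c.ι w * g⁻¹ * (g * T * g⁻¹) = g * (c.ι w * T) * g⁻¹ := by group
        _ = g * (T * c.ι w) * g⁻¹ := by rw [commute_T]
        _ = _ := by group)
    rcases hvcase with e | e
    · exact (u_cent_bits z).1 (e ▸ h)
    · exact (u_cent_bits z).2 (e ▸ h)
  have hgM : g ∈ M := by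
    refine hnorm hZE hWZ g fun a ha => ?_
    have hle' : Z ≤ Z.comap (MulAut.conj g).toMonoidHom := by
      refine (closure_le _).2 ?_
      rintro x (rfl | rfl)
      · show g * T * g⁻¹ ∈ Z
        rw [← hvv]
        rcases hvcase with e | e <;> rw [e]
        · exact hUZ
        · rw [← Cfsg.Lib.GTwoCent.t_mul_u, map_mul]; exact mul_mem hTZ hUZ
      · show g * U * g⁻¹ ∈ Z
        rw [hg]; exact hTZ
    exact hle' ha
  have hSM : (c.S : Subgroup G) ≤ M := fun x hx => by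
    obtain ⟨w, rfl⟩ := c.exists_ι hx
    exact hCM (ι_cent w)
  have hfix : ∀ {w : M4}, InE w → w ≠ 1 → w ≠ t 2 → ∃ m ∈ M, m * c.ι w * m⁻¹ = T := by
    intro w hw hw1 hwt
    obtain ⟨h, hh, hhw⟩ := fused_cent hp hw.2.1 hw1 hwt (inn_iff.2 hw.1) (hET w hw hw1)
    refine ⟨g * h, mul_mem hgM (hCM (mem_centralizer_singleton_iff.2 hh)), ?_⟩
    calc g * h * c.ι w * (g * h)⁻¹ = g * (h * c.ι w * h⁻¹) * g⁻¹ := by group
      _ = T := by rw [hhw, hg]
  have hjM : ∃ m ∈ M, m * c.ι i01 * m⁻¹ = T := by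
    have hqq : q * q = t 2 := c.ι_inj (by
      rw [map_mul, hq, ← hg, show U = c.ι (u 2) from rfl, ← h10, map_mul]; group)
    have hpp : p * p = 1 := c.ι_inj (by
      rw [map_mul, hpp', map_one]
      calc g * c.ι i0 * g⁻¹ * (g * c.ι i0 * g⁻¹) = g * c.ι (i0 * i0) * g⁻¹ := by rw [map_mul]; group
        _ = 1 := by rw [hi2, map_one, mul_one, mul_inv_cancel])
    have hpq : p * q ≠ q * p := fun e => hnc (c.ι_inj (by
      have e' := congrArg c.ι e
      rw [map_mul, map_mul, hpp', hq] at e'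
      rw [map_mul, map_mul]
      refine mul_left_cancel (a := g) (mul_right_cancel (b := g⁻¹) ?_)
      calc g * (c.ι i0 * c.ι ⟨1, 0, false, false⟩) * g⁻¹
          = g * c.ι i0 * g⁻¹ * (g * c.ι ⟨1, 0, false, false⟩ * g⁻¹) := by group
        _ = _ := by rw [e']; group))
    have hp1 : p ≠ 1 := fun e => hpq (by rw [e, one_mul, mul_one])
    have hpF : InT p = false := by
      rw [← Bool.not_eq_true, ← hp.isConj_iff_inT hpp hp1]
      intro h
      refine hp.tr (((isConj_iff.2 ⟨g, hpp'.symm⟩ : IsConj (c.ι i0) (c.ι p)).trans h).symm.trans ?_)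
      exact hp.ri0.symm
    obtain ⟨hE, h1, ht⟩ := u_image q p (hs hq) (hs hpp') hqq hpp hpq hpF
    obtain ⟨m, hm, hmw⟩ := hfix hE h1 ht
    refine ⟨m * g, mul_mem hm hgM, ?_⟩
    have hjq : c.ι (q * p) = g * c.ι i01 * g⁻¹ := by rw [map_mul, hq, hpp', ← hprod, map_mul]; group
    calc m * g * c.ι i01 * (m * g)⁻¹ = m * (g * c.ι i01 * g⁻¹) * m⁻¹ := by group
      _ = T := by rw [← hjq, hmw]
  have hctrl : ∀ z ∈ M, IsConj z T → ∃ m ∈ M, m * z * m⁻¹ = T := by
    intro z hz hzT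
    have ho : orderOf z = 2 := by
      obtain ⟨a, rfl⟩ := isConj_iff.1 hzT.symm
      rw [← MulAut.conj_apply, MulEquiv.orderOf_eq, orderOf_T]
    obtain ⟨m, hm, hmS⟩ := Cfsg.Lib.TwoFusion.exists_sylow_conj c.S hSM
      (IsPGroup.of_card (n := 1) (by rw [Nat.card_zpowers, ho, pow_one])) (zpowers_le.2 hz)
    obtain ⟨w, hw⟩ := c.exists_ι (hmS z (mem_zpowers z))
    obtain ⟨hww, hw1⟩ := c.inv_pre (q := w) (by rw [hw, ← MulAut.conj_apply, MulEquiv.orderOf_eq, ho])
    have hwT : InT w = true := (hp.isConj_iff_inT hww hw1).1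
      ((isConj_iff.2 ⟨m, hw.symm⟩ : IsConj z (c.ι w)).symm.trans hzT)
    obtain ⟨k, hk⟩ := rep_spec w hww hw1
    obtain ⟨n, hn, hnw⟩ : ∃ n ∈ M, n * c.ι (rep w) * n⁻¹ = T := by
      rcases (inT_rep w hww hw1).1 hwT with e | e | e | e <;> rw [e]
      · exact ⟨1, one_mem M, by group⟩
      · exact ⟨g, hgM, hg⟩
      · exact hjM
      · exact hfix hEi (by decide +kernel) hit
    refine ⟨n * (c.ι k)⁻¹ * m, mul_mem (mul_mem hn (inv_mem (hSM (c.ι_mem k)))) hm, ?_⟩
    calc n * (c.ι k)⁻¹ * m * z * (n * (c.ι k)⁻¹ * m)⁻¹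
        = n * ((c.ι k)⁻¹ * (m * z * m⁻¹) * c.ι k) * n⁻¹ := by group
      _ = n * c.ι (rep w) * n⁻¹ := by
        rw [← hw, show c.ι w = c.ι k * c.ι (rep w) * (c.ι k)⁻¹ by rw [← map_inv, ← map_mul, ← map_mul, hk]]
        group
      _ = T := hnw
  have hMtop : M = ⊤ := by
    by_contra hMne
    have hTs : ∀ s ∈ c.S, Commute s T := fun s hs => by
      obtain ⟨w, rfl⟩ := c.exists_ι hs
      exact commute_T c w
    refine Exists.elim (Cfsg.Agent.S1175.result M hMne T (orderOf_T c) (hCM (ι_cent _)) ⟨c.S, c.ι_mem _, hTs⟩ ?_ ?_) fun H hH => ?_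
    · intro k hk
      obtain ⟨m, hm, hmk⟩ := hctrl _ hk (isConj_iff.2 ⟨k⁻¹, by group⟩)
      have : m * k ∈ M := hCM (mem_centralizer_singleton_iff.2 (mul_inv_eq_iff_eq_mul.1 (by
        conv_rhs => rw [← hmk]
        group)))
      simpa using mul_mem (inv_mem hm) this
    · intro k hk hkne
      set z := k * T * k⁻¹ with hz
      have hzC : z ∈ centralizer ({T} : Set G) := mem_centralizer_singleton_iff.2 hk.symm.eq
      have hTz : T * z ∈ M := mul_mem (hCM (ι_cent _)) (hCM hzC)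
      have hzo : orderOf z = 2 := by rw [hz, ← MulAut.conj_apply, MulEquiv.orderOf_eq, orderOf_T]
      obtain ⟨m, hm, hmS⟩ := Cfsg.Lib.TwoFusion.exists_sylow_conj c.S (fun x hx => by
          obtain ⟨w, rfl⟩ := c.exists_ι hx; exact ι_cent w)
        (IsPGroup.of_card (n := 1) (by rw [Nat.card_zpowers, hzo, pow_one])) (zpowers_le.2 hzC)
      obtain ⟨w, hw⟩ := c.exists_ι (hmS z (mem_zpowers z))
      have hmT : m * T * m⁻¹ = T := mul_inv_eq_iff_eq_mul.2 (mem_centralizer_singleton_iff.1 hm)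
      obtain ⟨hww, hw1⟩ := c.inv_pre (q := w) (by rw [hw, ← MulAut.conj_apply, MulEquiv.orderOf_eq, hzo])
      have hwT : InT w = true := (hp.isConj_iff_inT hww hw1).1
        ((isConj_iff.2 ⟨m * k, by rw [hw, hz]; group⟩ : IsConj T (c.ι w)).symm)
      have hwt : w ≠ t 2 := fun e => hkne (by
        rw [e] at hw
        exact mul_left_cancel (mul_right_cancel (hw.symm.trans hmT.symm)))
      obtain ⟨h1, h2, h3⟩ := htq w hwT hww hw1 hwt
      have hconj : IsConj (T * z) T := by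
        refine (isConj_iff.2 ⟨m, ?_⟩ : IsConj (T * z) (c.ι (t 2 * w))).trans ((hp.isConj_iff_inT h2 h3).2 h1)
        rw [map_mul, hw]
        calc m * (T * z) * m⁻¹ = m * T * m⁻¹ * (m * z * m⁻¹) := by group
          _ = _ := by rw [hmT]
      obtain ⟨n, hn, hnz⟩ := hctrl _ hTz hconj
      intro y hy
      have hcy : n * y * n⁻¹ ∈ M := hCM (mem_centralizer_singleton_iff.2 (by
        rw [← hnz]
        exact ((show Commute y (T * z) from mem_centralizer_singleton_iff.1 hy).map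
          (MulAut.conj n).toMonoidHom).eq))
      simpa [mul_assoc] using mul_mem (mul_mem (inv_mem hn) hcy) hn
    · obtain ⟨x, y, hx, hy, hxy⟩ := hns
      exact hxy (Cfsg.Lib.StrongEmb.all_conj hH hx hy)
  haveI : W.Normal := normalizer_eq_top_iff.1 hMtop
  rcases IsSimpleGroup.eq_bot_or_eq_top_of_normal W inferInstance with h | h
  · exact le_bot_iff.1 ((hle T hTE (hne1 t_sq.2.1)).trans h.le)
  · exfalso
    rw [h, card_top] at hodd
    exact Nat.not_even_iff_odd.2 hodd (even_iff_two_dvd.2 (orderOf_T c ▸ orderOf_dvd_natCard T))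

end Cfsg.Lib.MTwelveType
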