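import Cfsg.Agent.LFourType.Moved
import Cfsg.Agent.InvolCalc.Dihedral
import Cfsg.Agent.RuSylow.Main
import Cfsg.Agent.TwoFusion.FusionTools
import Cfsg.Agent.S0217

/-!
# An elementary Sylow 2-subgroup with a semiregular automizer and two classes of involutions

Such a Sylow subgroup is normal and self-centralising, if there is no odd core.
-/

set_option autoImplicit false
set_option linter.unusedSectionVars false
set_option linter.style.haveILetI false

namespace Cfsg.Lib.MTwelveType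

open Subgroup
open Cfsg.Lib.Walter (Oc)
open Cfsg.Lib.LFourType (conj_Oc le_Oc Oc_normalized odd_Oc)

universe v

variable {X : Type v} [Group X] [Finite X]

theorem orderOf_two {a : X} (h : a * a = 1) (h1 : a ≠ 1) : orderOf a = 2 :=
  orderOf_eq_prime (by rw [pow_two, h]) h1

/-- A subgroup containing the Sylow normaliser and the centralisers of the involutions of the Sylow subgroup is
everything, if two of these involutions are not conjugate. -/
theorem top_of_cents (V : Sylow 2 X) (hsq : ∀ a ∈ (V : Subgroup X), a * a = 1)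
    (hns : ∃ x ∈ (V : Subgroup X), ∃ y ∈ (V : Subgroup X), x ≠ 1 ∧ y ≠ 1 ∧ ¬ IsConj x y) (M : Subgroup X)
    (hC : ∀ a ∈ (V : Subgroup X), a ≠ 1 → centralizer ({a} : Set X) ≤ M)
    (hN : normalizer ((V : Subgroup X) : Set X) ≤ M) : M = ⊤ := by
  haveI : Fact (Nat.Prime 2) := ⟨Nat.prime_two⟩
  have hVM : (V : Subgroup X) ≤ M := le_normalizer.trans hN
  have hinv : ∀ s : X, orderOf s = 2 → s ∈ M := by
    intro s hs
    obtain ⟨x, hx, y, hy, hx1, hy1, hxy⟩ := hns
    obtain ⟨b, hb, hb1, hsb⟩ : ∃ b ∈ (V : Subgroup X), b ≠ 1 ∧ ¬ IsConj s b := by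
      by_cases h : IsConj s x
      · exact ⟨y, hy, hy1, fun h' => hxy (h.symm.trans h')⟩
      · exact ⟨x, hx, hx1, h⟩
    have hb2 := orderOf_two (hsq b hb) hb1
    rcases Nat.even_or_odd (orderOf (s * b)) with he | ho
    · obtain ⟨hz, hzs, hzb⟩ := Cfsg.Lib.InvolCalc.central_spec hs hb2 he
      set z := (s * b) ^ (orderOf (s * b) / 2)
      have hzM : z ∈ M := hC b hb hb1 (mem_centralizer_singleton_iff.2 hzb.eq)
      obtain ⟨m, hm, hmV⟩ := Cfsg.Lib.TwoFusion.exists_sylow_conj V hVM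
        (IsPGroup.of_card (n := 1) (by rw [Nat.card_zpowers, hz, pow_one])) (zpowers_le.2 hzM)
      have ha := hmV z (mem_zpowers z)
      have ha1 : m * z * m⁻¹ ≠ 1 := fun e => by
        rw [conj_eq_one_iff] at e
        rw [e, orderOf_one] at hz
        norm_num at hz
      have hsm : m * s * m⁻¹ ∈ M := hC _ ha ha1 (mem_centralizer_singleton_iff.2
        (hzs.symm.map (MulAut.conj m).toMonoidHom).eq)
      simpa [mul_assoc] using mul_mem (mul_mem (inv_mem hm) hsm) hm
    · obtain ⟨d, -, hd⟩ := Cfsg.Lib.InvolCalc.conj_of_odd hs hb2 ho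
      exact absurd (isConj_iff.2 ⟨d, hd⟩) hsb
  set N := normalClosure {s : X | orderOf s = 2}
  have hNM : N ≤ M := (closure_le _).2 fun x hx => by
    obtain ⟨s, hs, hc⟩ := Group.mem_conjugatesOfSet_iff.1 hx
    obtain ⟨g, rfl⟩ := isConj_iff.1 hc
    exact hinv _ (by rw [← MulAut.conj_apply, MulEquiv.orderOf_eq]; exact hs)
  haveI : N.Normal := normalClosure_normal
  have hVN : (V : Subgroup X) ≤ N := fun a ha => by
    by_cases h1 : a = 1
    · exact h1 ▸ one_mem N
    · exact subset_normalClosure (orderOf_two (hsq a ha) h1)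
  exact top_le_iff.1 ((Sylow.normalizer_sup_eq_top' V hVN).ge.trans (sup_le hN hNM))

/-- **Semiregular automizer**: an elementary Sylow 2-subgroup of order at least 8 is normal. -/
theorem normal_of_semiregular (hO : Cfsg.oddCore X = ⊥) (V : Sylow 2 X)
    (hsq : ∀ a ∈ (V : Subgroup X), a * a = 1) (h8 : 8 ≤ Nat.card (V : Subgroup X))
    (hfix : ∀ g ∈ normalizer ((V : Subgroup X) : Set X), ∀ a ∈ (V : Subgroup X), a ≠ 1 →
      g * a * g⁻¹ = a → g ∈ centralizer ((V : Subgroup X) : Set X))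
    (hns : ∃ x ∈ (V : Subgroup X), ∃ y ∈ (V : Subgroup X), x ≠ 1 ∧ y ≠ 1 ∧ ¬ IsConj x y) :
    (V : Subgroup X).Normal ∧ centralizer ((V : Subgroup X) : Set X) ≤ V := by
  haveI : Fact (Nat.Prime 2) := ⟨Nat.prime_two⟩
  have hcomm : ∀ a ∈ (V : Subgroup X), ∀ b ∈ (V : Subgroup X), a * b = b * a := fun a ha b hb => by
    have e := inv_eq_of_mul_eq_one_left (hsq _ (mul_mem ha hb))
    rw [_root_.mul_inv_rev, inv_eq_of_mul_eq_one_left (hsq a ha), inv_eq_of_mul_eq_one_left (hsq b hb)] at e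
    exact e.symm
  -- the centralisers of the involutions
  have hloc : ∀ a ∈ (V : Subgroup X), a ≠ 1 →
      (∀ x ∈ centralizer ({a} : Set X), Odd (orderOf x) → x ∈ Oc a) ∧
        ∀ x ∈ centralizer ({a} : Set X), ∃ o ∈ Oc a, ∃ b ∈ (V : Subgroup X), o * b = x := by
    intro a ha ha1
    set C := centralizer ({a} : Set X) with hC
    have hVC : (V : Subgroup X) ≤ C := fun b hb => mem_centralizer_singleton_iff.2 (hcomm b hb a ha)
    set P := V.subtype hVC with hP
    have hPN : normalizer ((P : Subgroup C) : Set C) ≤ centralizer ((P : Subgroup C) : Set C) := by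
      intro g hg
      have hgN : (g : X) ∈ normalizer ((V : Subgroup X) : Set X) :=
        Cfsg.Lib.ZStarApps.mem_normalizer_of_maps fun b hb =>
          (mem_normalizer_iff.1 hg ⟨b, hVC hb⟩).1 hb
      have hga : (g : X) * a * (g : X)⁻¹ = a :=
        mul_inv_eq_iff_eq_mul.2 (mem_centralizer_singleton_iff.1 g.2)
      exact mem_centralizer_iff.2 fun b hb =>
        Subtype.ext (mem_centralizer_iff.1 (hfix g hgN a ha ha1 hga) b hb)
    have hc := MonoidHom.ker_transferSylow_isComplement' P hPN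
    set K := (MonoidHom.transferSylow P hPN).ker
    have hK : K ≤ Cfsg.pPrimeCore 2 C :=
      Cfsg.Lib.Components.le_pPrimeCore (Cfsg.Lib.Transfer.complement_props hc).1
    have hKO : ∀ k ∈ K, (k : X) ∈ Oc a := fun k hk => ⟨k, hK hk, rfl⟩
    obtain ⟨hcop, n, hn⟩ := Cfsg.Lib.Transfer.complement_props hc
    refine ⟨fun x hx ho => hKO ⟨x, hx⟩ ?_, fun x hx => ?_⟩
    · exact (Cfsg.Lib.Transfer.mem_iff_coprime_orderOf hcop hn _).2
        (Nat.coprime_two_right.2 (by rwa [← Subgroup.orderOf_mk x hx] at ho))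
    · obtain ⟨⟨⟨k, hk⟩, ⟨b, hb⟩⟩, e⟩ := hc.2 ⟨x, hx⟩
      exact ⟨k, hKO k hk, b, hb, congrArg Subtype.val e⟩
  obtain ⟨hodd, -⟩ := Cfsg.Agent.S0217.result (V : Subgroup X) hcomm
    (fun a ha => by rw [pow_two]; exact hsq a ha) (by norm_num; exact h8) (fun a => Oc a)
    (fun a _ _ => Cfsg.Lib.LFourType.Oc_le a)
    (fun a _ _ h => Nat.not_even_iff_odd.2 (odd_Oc a) (even_iff_two_dvd.2 h))
    (fun a ha _ b hb x hx => (mem_normalizer_iff.1
      (Oc_normalized (mem_centralizer_singleton_iff.2 (hcomm b hb a ha))) x).1 hx)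
    (fun a _ _ => Cfsg.Agent.PF.isSolvable_of_odd _ (odd_Oc a))
    (fun a ha ha1 b hb hb1 x hx => (hloc b hb hb1).1 x hx.2
      ((odd_Oc a).of_dvd_nat (Subgroup.orderOf_dvd_natCard _ hx.1)))
  set W := ⨆ a : {a : X // a ∈ (V : Subgroup X) ∧ a ≠ 1}, Oc (a : X)
  have hle : ∀ a ∈ (V : Subgroup X), a ≠ 1 → Oc a ≤ W := fun a ha ha1 =>
    le_iSup (fun a : {a : X // a ∈ (V : Subgroup X) ∧ a ≠ 1} => Oc (a : X)) ⟨a, ha, ha1⟩
  have hNW : normalizer ((V : Subgroup X) : Set X) ≤ normalizer (W : Set X) := fun n hn =>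
    Cfsg.Lib.ZStarApps.mem_normalizer_of_maps fun x hx => by
      have hW : W ≤ W.comap (MulAut.conj n).toMonoidHom := iSup_le fun ⟨a, ha, ha1⟩ y hy =>
        hle (n * a * n⁻¹) ((mem_normalizer_iff.1 hn a).1 ha)
          (fun e => ha1 (conj_eq_one_iff.1 e)) (conj_Oc n a hy)
      exact hW hx
  have hWtop : normalizer (W : Set X) = ⊤ := by
    refine top_of_cents V hsq hns _ (fun a ha ha1 x hx => ?_) hNW
    obtain ⟨o, ho, b, hb, rfl⟩ := (hloc a ha ha1).2 x hx
    exact mul_mem (le_normalizer (hle a ha ha1 ho)) (hNW (le_normalizer hb))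
  have hWbot : W = ⊥ := by
    haveI : W.Normal := normalizer_eq_top_iff.1 hWtop
    have h := @Cfsg.Lib.Components.le_pPrimeCore _ _ 2 W inferInstance
      (Nat.coprime_two_right.2 (Nat.not_even_iff_odd.1 fun h => hodd (even_iff_two_dvd.1 h)))
    exact le_bot_iff.1 (h.trans hO.le)
  have hCa : ∀ a ∈ (V : Subgroup X), a ≠ 1 → centralizer ({a} : Set X) ≤ V := fun a ha ha1 x hx => by
    obtain ⟨o, ho, b, hb, rfl⟩ := (hloc a ha ha1).2 x hx
    have : o = 1 := mem_bot.1 (hWbot ▸ hle a ha ha1 ho)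
    rw [this, one_mul]
    exact hb
  refine ⟨normalizer_eq_top_iff.1 (top_of_cents V hsq hns _ (fun a ha ha1 => (hCa a ha ha1).trans le_normalizer)
    le_rfl), ?_⟩
  obtain ⟨a, ha, -, -, ha1, -, -⟩ := hns
  exact (centralizer_le (Set.singleton_subset_iff.2 ha)).trans (hCa a ha ha1)

end Cfsg.Lib.MTwelveType
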