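import Cfsg.Agent.MTwelveType.Model
import Cfsg.Agent.GTwoCent.Parity
import Cfsg.Agent.Goldschmidt.Final
import Cfsg.Agent.InvolCalc.StronglyEmbedded

/-!
# Involution fusion with Sylow 2-subgroups of type `M₁₂` and two classes

Transfer and Goldschmidt's theorem leave a single pattern, up to an automorphism of the model.
-/

set_option autoImplicit false
set_option linter.unusedSectionVars false
set_option linter.style.haveILetI false
set_option maxRecDepth 100000
set_option maxHeartbeats 400000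
set_option synthInstance.maxSize 4096
set_option synthInstance.maxHeartbeats 400000

namespace Cfsg.Lib.MTwelveType

open Subgroup
open Cfsg.Lib.GTwoType Cfsg.Lib.GTwoType.Mdl

universe v

instance instFintypeM4 : Fintype M4 := Fintype.ofEquiv _ (Mdl.equivProd (n := 2 ^ 2)).symm

/-- An odd coordinate. -/
def od (x : ZMod (2 ^ 2)) : Bool := decide (x = 1 ∨ x = 3)

/-- The inversion with both coordinates even. -/
abbrev i0 : M4 := iv (2 ^ 2) 0 0
/-- The inversion with one odd coordinate. -/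
abbrev i01 : M4 := iv (2 ^ 2) 1 0
/-- The inversion with both coordinates odd. -/
abbrev i1 : M4 := iv (2 ^ 2) 1 1

/-- The representative of the class in the model. -/
def rep (w : M4) : M4 :=
  if w.s then (if w.e then r' (2 ^ 2) else r (2 ^ 2))
  else if w.e then (if od w.x = od w.y then (if od w.x then i1 else i0) else i01)
  else if w = t 2 then t 2 else u 2

theorem rep_spec : ∀ w : M4, w * w = 1 → w ≠ 1 → ∃ g : M4, g * rep w * g⁻¹ = w := by decide +kernel

theorem rep_bits : ∀ w : M4, (w.s = true → w.e = false → rep w = r (2 ^ 2)) ∧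
    (w.s = true → w.e = true → rep w = r' (2 ^ 2)) ∧
    (w.s = false → w.e = false → rep w = t 2 ∨ rep w = u 2) ∧
    (w.s = false → w.e = true → rep w = i0 ∨ rep w = i01 ∨ rep w = i1) := by decide +kernel

theorem par_hom : ∀ g k : M4, od (g * k).x = od (g * k).x ∧
    (od ((g * k).x + (g * k).y) = xor (od (g.x + g.y)) (od (k.x + k.y))) := by decide +kernel

theorem par_rep : ∀ w : M4, w * w = 1 → od (w.x + w.y) = false → rep w ≠ i01 := by decide +kernel

/-- The images of `a₁₀` and of the inversion under an element moving `u` to `t`. -/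
theorem move_images : ∀ q p : M4, q.s = false → p.s = false → q * q = t 2 → p * p = 1 → p * q ≠ q * p →
    ((rep p = i01 ∧ rep (q * p) = i01) ∨ ((rep p = i0 ∨ rep p = i1) ∧ (rep (q * p) = i0 ∨ rep (q * p) = i1))) := by
  decide +kernel

theorem u_cent_bits : ∀ g : M4, (g * u 2 = u 2 * g → g.s = false) ∧ (g * u' 2 = u' 2 * g → g.s = false) := by
  decide +kernel

theorem elem_facts : (⟨1, 1, false, false⟩ : M4) * u 2 = u 2 * ⟨1, 1, false, false⟩ ∧
    (⟨1, 1, false, false⟩ : M4) * ⟨1, 1, false, false⟩ = t 2 ∧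
    (⟨1, 0, false, false⟩ : M4) * u 2 = u 2 * ⟨1, 0, false, false⟩ ∧
    (⟨1, 0, false, false⟩ : M4) * ⟨1, 0, false, false⟩ = u 2 ∧ i0 * u 2 = u 2 * i0 ∧
    (⟨1, 0, false, false⟩ : M4) * i0 = i01 ∧ i0 * ⟨1, 0, false, false⟩ ≠ (⟨1, 0, false, false⟩ : M4) * i0 ∧
    i0 * i0 = 1 ∧ i0 ≠ 1 ∧ i01 * i01 = 1 ∧ i01 ≠ 1 ∧ i1 * i1 = 1 ∧ i1 ≠ 1 := by decide +kernel

theorem not_comm_model : ∃ g k : M4, g * k ≠ k * g := ⟨r (2 ^ 2), i01, by decide +kernel⟩

/-- The four-group, enlarged by the inversions of one parity. -/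
def Cl0 (q : M4) : Bool := !q.s && !(od q.x) && !(od q.y) && !q.e
/-- Even inversions added. -/
def Cl1 (q : M4) : Bool := !q.s && !(od q.x) && !(od q.y)
/-- Odd inversions added. -/
def Cl2 (q : M4) : Bool :=
  !q.s && (if q.e then od q.x && od q.y else !(od q.x) && !(od q.y))

theorem cl_sub : ∀ p q : M4,
    (Cl0 p = true → Cl0 q = true → Cl0 (p * q) = true ∧ p * q = q * p) ∧
    (Cl1 p = true → Cl1 q = true → Cl1 (p * q) = true ∧ p * q = q * p) ∧
    (Cl2 p = true → Cl2 q = true → Cl2 (p * q) = true ∧ p * q = q * p) := by decide +kernel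

theorem cl_one : ∀ p : M4, (Cl0 1 = true ∧ Cl1 1 = true ∧ Cl2 1 = true) ∧
    (Cl0 p⁻¹ = Cl0 p ∧ Cl1 p⁻¹ = Cl1 p ∧ Cl2 p⁻¹ = Cl2 p) ∧ (Cl0 (t 2) = true ∧ Cl1 (t 2) = true ∧ Cl2 (t 2) = true) := by
  decide +kernel

theorem cl_rep : ∀ q : M4,
    (Cl0 q = true → q ≠ 1 → q * q = 1 ∧ (rep q = t 2 ∨ rep q = u 2)) ∧
    (Cl1 q = true → q ≠ 1 → q * q = 1 ∧ (rep q = t 2 ∨ rep q = u 2 ∨ rep q = i0)) ∧
    (Cl2 q = true → q ≠ 1 → q * q = 1 ∧ (rep q = t 2 ∨ rep q = u 2 ∨ rep q = i1)) ∧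
    (q * q = 1 → (rep q = t 2 ∨ rep q = u 2) → Cl0 q = true ∧ Cl1 q = true ∧ Cl2 q = true) ∧
    (q * q = 1 → rep q = i0 → Cl1 q = true) ∧ (q * q = 1 → rep q = i1 → Cl2 q = true) := by decide +kernel

/-- The translation of the inversions. -/
def shift (q : M4) : M4 := if q.e then ⟨q.x + 1, q.y + 1, q.s, q.e⟩ else q

theorem shift_hom : ∀ p q : M4, shift (p * q) = shift p * shift q := by decide +kernel

theorem shift_bij : Function.Bijective shift := by
  refine (Finite.injective_iff_bijective).1 ?_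
  unfold Function.Injective
  decide +kernel

/-- The automorphism exchanging the two parities. -/
noncomputable def shiftEquiv : M4 ≃* M4 :=
  MulEquiv.ofBijective (MonoidHom.mk' shift shift_hom) shift_bij

theorem shift_vals : shift (t 2) = t 2 ∧ shift (u 2) = u 2 ∧ shift (r (2 ^ 2)) = r (2 ^ 2) ∧ rep (shift i1) = i0 ∧
    rep (shift i0) = i1 ∧ rep (shift i01) = i01 ∧ rep (shift (r' (2 ^ 2))) = r' (2 ^ 2) ∧
    shift i1 * shift i1 = 1 ∧ shift i0 * shift i0 = 1 ∧ shift i01 * shift i01 = 1 ∧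
    shift (r' (2 ^ 2)) * shift (r' (2 ^ 2)) = 1 ∧ shift i1 ≠ 1 ∧ shift i0 ≠ 1 ∧ shift i01 ≠ 1 ∧
    shift (r' (2 ^ 2)) ≠ 1 := by decide +kernel

variable {G : Type v} [Group G] [Finite G] (c : Typed G 2)

theorem conj_rep {w : M4} (hw : w * w = 1) (h1 : w ≠ 1) : IsConj (c.ι (rep w)) (c.ι w) := by
  obtain ⟨g, hg⟩ := rep_spec w hw h1
  exact c.conj_ι hg

theorem t_sq : t 2 * t 2 = (1 : M4) ∧ t 2 ≠ (1 : M4) ∧ r (2 ^ 2) * r (2 ^ 2) = (1 : M4) ∧
    r (2 ^ 2) ≠ (1 : M4) ∧ r' (2 ^ 2) * r' (2 ^ 2) = (1 : M4) ∧ r' (2 ^ 2) ≠ (1 : M4) ∧ u 2 * u 2 = (1 : M4) ∧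
    u 2 ≠ (1 : M4) := by decide +kernel

theorem orderOf_T : orderOf (c.ι (t 2)) = 2 := c.order_ι t_sq.1 t_sq.2.1

/-- A strongly closed abelian subgroup is impossible. -/
theorem no_closed [IsSimpleGroup G] (hns : ∃ x y : G, orderOf x = 2 ∧ orderOf y = 2 ∧ ¬ IsConj x y)
    (Cl : M4 → Bool) (h1 : Cl 1 = true) (ht : Cl (t 2) = true)
    (hmul : ∀ p q, Cl p = true → Cl q = true → Cl (p * q) = true ∧ p * q = q * p)
    (hinv : ∀ p, Cl p⁻¹ = Cl p)
    (hcl : ∀ p, Cl p = true → p ≠ 1 → ∀ q, q * q = 1 → q ≠ 1 → IsConj (c.ι p) (c.ι q) → Cl q = true)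
    (hsq : ∀ p, Cl p = true → p ≠ 1 → p * p = 1) : False := by
  classical
  let D : Subgroup M4 :=
    { carrier := {p | Cl p = true}
      one_mem' := h1
      mul_mem' := fun hp hq => (hmul _ _ hp hq).1
      inv_mem' := fun {p} hp => (hinv p).trans hp }
  set A := D.map c.ι
  have hA : A ≠ ⊥ := fun h => by
    have hm : c.ι (t 2) ∈ A := mem_map_of_mem c.ι (show t 2 ∈ D from ht)
    rw [h, mem_bot] at hm
    exact t_sq.2.1 (c.ι_inj (hm.trans (map_one c.ι).symm))
  have hc : IsMulCommutative A := ⟨⟨by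
    rintro ⟨_, p, hp, rfl⟩ ⟨_, q, hq, rfl⟩
    refine Subtype.ext ?_
    show c.ι p * c.ι q = c.ι q * c.ι p
    rw [← map_mul, ← map_mul, (hmul p q hp hq).2]⟩⟩
  have hsc : Cfsg.IsStronglyClosed A (c.S : Subgroup G) := by
    refine ⟨by rintro _ ⟨p, -, rfl⟩; exact c.ι_mem p, ?_⟩
    rintro _ ⟨p, hp, rfl⟩ g hg
    obtain ⟨q, hq⟩ := c.exists_ι hg
    by_cases hp1 : p = 1
    · rw [hp1, map_one, mul_one, mul_inv_cancel]
      exact one_mem A
    have hqq : q * q = 1 := c.ι_inj (by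
      rw [map_mul, map_one, hq]
      calc g * c.ι p * g⁻¹ * (g * c.ι p * g⁻¹) = g * c.ι (p * p) * g⁻¹ := by rw [map_mul]; group
        _ = 1 := by rw [hsq p hp hp1, map_one, mul_one, mul_inv_cancel])
    have hq1 : q ≠ 1 := fun e => hp1 (c.ι_inj (by
      rw [e, map_one] at hq
      rw [map_one]
      exact conj_eq_one_iff.1 hq.symm))
    exact ⟨q, hcl p hp hp1 q hqq hq1 (isConj_iff.2 ⟨g, hq.symm⟩), hq⟩
  rcases Cfsg.Lib.Goldschmidt.goldProp G c.S A hA hc hsc with h | ⟨H, hH⟩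
  · obtain ⟨g, k, hgk⟩ := not_comm_model
    exact hgk (c.ι_inj (by
      rw [map_mul, map_mul]
      exact congrArg Subtype.val (h.is_comm.comm ⟨_, c.ι_mem g⟩ ⟨_, c.ι_mem k⟩)))
  · obtain ⟨x, y, hx, hy, hxy⟩ := hns
    exact hxy (Cfsg.Lib.StrongEmb.all_conj hH hx hy)

/-- One odd coordinate goes with one of the other parities. -/
theorem odd_move (hu : IsConj (c.ι (t 2)) (c.ι (u 2))) :
    IsConj (c.ι i01) (c.ι i0) ∨ IsConj (c.ι i01) (c.ι i1) := by
  obtain ⟨h11u, h11, h10u, h10, hiu, hprod, hnc, hi2, hi1, -, -, -, -⟩ := elem_facts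
  obtain ⟨g, hg, hgS⟩ := c.exists_conj_cent hu.symm
  set U := c.ι (u 2)
  have hcm : ∀ {q : M4}, q * u 2 = u 2 * q → Commute (c.ι q) U := fun {q} h => by
    rw [commute_iff_eq, ← map_mul, ← map_mul, h]
  obtain ⟨v, hv⟩ := c.exists_ι (hgS _ (c.ι_mem _) (hcm h11u))
  obtain ⟨q, hq⟩ := c.exists_ι (hgS _ (c.ι_mem _) (hcm h10u))
  obtain ⟨p, hp⟩ := c.exists_ι (hgS _ (c.ι_mem _) (hcm hiu))
  have hvv : c.ι (v * v) = g * c.ι (t 2) * g⁻¹ := by rw [map_mul, hv, ← h11, map_mul]; group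
  have ho : orderOf (c.ι (v * v)) = 2 := by rw [hvv, ← MulAut.conj_apply, MulEquiv.orderOf_eq, orderOf_T]
  obtain ⟨hi, hne⟩ := c.inv_pre ho
  have hvne : v * v ≠ t 2 := fun e => by
    have : g * c.ι (t 2) * g⁻¹ = g * U * g⁻¹ := by rw [hg, ← hvv, e]
    exact absurd (c.ι_inj (mul_left_cancel (mul_right_cancel this))) (by decide +kernel)
  have hs : ∀ {w z : M4}, c.ι z = g * c.ι w * g⁻¹ → w * t 2 = t 2 * w → z.s = false := fun {w z} hz hw => by
    have h : z * (v * v) = (v * v) * z := c.ι_inj (by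
      rw [map_mul c.ι z, map_mul c.ι (v * v) z, hvv, hz]
      calc g * c.ι w * g⁻¹ * (g * c.ι (t 2) * g⁻¹) = g * c.ι (w * t 2) * g⁻¹ := by rw [map_mul]; group
        _ = _ := by rw [hw, map_mul]; group)
    rcases square_inv (by norm_num) v hne hi with e | e | e
    · exact absurd e hvne
    · exact (u_cent_bits z).1 (e ▸ h)
    · exact (u_cent_bits z).2 (e ▸ h)
  have hqs := hs hq (t_central (by norm_num) _)
  have hps := hs hp (t_central (by norm_num) _)
  have hqq : q * q = t 2 := c.ι_inj (by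
    rw [map_mul, hq, ← hg, show U = c.ι (u 2) from rfl, ← h10, map_mul]; group)
  have hpp : p * p = 1 := c.ι_inj (by
    rw [map_mul, hp, map_one]
    calc g * c.ι i0 * g⁻¹ * (g * c.ι i0 * g⁻¹) = g * c.ι (i0 * i0) * g⁻¹ := by rw [map_mul]; group
      _ = 1 := by rw [hi2, map_one, mul_one, mul_inv_cancel])
  have hpq : p * q ≠ q * p := fun e => hnc (c.ι_inj (by
    have e' := congrArg c.ι e
    rw [map_mul, map_mul, hp, hq] at e'
    rw [map_mul, map_mul]
    refine mul_left_cancel (a := g) (mul_right_cancel (b := g⁻¹) ?_)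
    calc g * (c.ι i0 * c.ι ⟨1, 0, false, false⟩) * g⁻¹
        = g * c.ι i0 * g⁻¹ * (g * c.ι ⟨1, 0, false, false⟩ * g⁻¹) := by group
      _ = _ := by rw [e']; group))
  have hp1 : p ≠ 1 := fun e => hpq (by rw [e, one_mul, mul_one])
  have hjq : c.ι (q * p) = g * c.ι i01 * g⁻¹ := by rw [map_mul, hq, hp, ← hprod, map_mul]; group
  have hjj := c.inv_pre (q := q * p) (by
    rw [hjq, ← MulAut.conj_apply, MulEquiv.orderOf_eq]; exact c.order_ι (by decide +kernel) (by decide +kernel))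
  have hI : IsConj (c.ι i0) (c.ι (rep p)) :=
    (isConj_iff.2 ⟨g, hp.symm⟩ : IsConj (c.ι i0) (c.ι p)).trans (conj_rep c hpp hp1).symm
  have hJ : IsConj (c.ι i01) (c.ι (rep (q * p))) :=
    (isConj_iff.2 ⟨g, hjq.symm⟩ : IsConj (c.ι i01) (c.ι (q * p))).trans (conj_rep c hjj.1 hjj.2).symm
  rcases move_images q p hqs hps hqq hpp hpq with ⟨e, -⟩ | ⟨-, e | e⟩
  · rw [e] at hI; exact Or.inl hI.symm
  · rw [e] at hJ; exact Or.inl hJ
  · rw [e] at hJ; exact Or.inr hJ

/-- The fusion pattern. -/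
structure Pattern : Prop where
  tu : IsConj (c.ι (t 2)) (c.ι (u 2))
  tr : ¬ IsConj (c.ι (t 2)) (c.ι (r (2 ^ 2)))
  rr : IsConj (c.ι (r (2 ^ 2))) (c.ι (r' (2 ^ 2)))
  ti1 : IsConj (c.ι (t 2)) (c.ι i1)
  tj : IsConj (c.ι (t 2)) (c.ι i01)
  ri0 : IsConj (c.ι (r (2 ^ 2))) (c.ι i0)

/-- The involutions of the class of `t`. -/
def InT (q : M4) : Bool :=
  !q.s && (if q.e then od q.x || od q.y else decide (q * q = 1) && decide (q ≠ 1))

theorem inT_rep : ∀ q : M4, q * q = 1 → q ≠ 1 →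
    (InT q = true → rep q = t 2 ∨ rep q = u 2 ∨ rep q = i01 ∨ rep q = i1) ∧
    (InT q = false → rep q = r (2 ^ 2) ∨ rep q = r' (2 ^ 2) ∨ rep q = i0) := by decide +kernel

theorem Pattern.isConj_iff_inT {c : Typed G 2} (h : Pattern c) {q : M4} (hq : q * q = 1) (h1 : q ≠ 1) :
    IsConj (c.ι q) (c.ι (t 2)) ↔ InT q = true := by
  have hr := (conj_rep c hq h1)
  constructor
  · intro hc
    by_contra hn
    rw [Bool.not_eq_true] at hn
    rcases (inT_rep q hq h1).2 hn with e | e | e <;> rw [e] at hr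
    · exact h.tr (hr.trans hc).symm
    · exact h.tr ((h.rr.trans (hr.trans hc)).symm)
    · exact h.tr ((h.ri0.trans (hr.trans hc)).symm)
  · intro hT
    rcases (inT_rep q hq h1).1 hT with e | e | e | e <;> rw [e] at hr
    · exact hr.symm
    · exact hr.symm.trans h.tu.symm
    · exact hr.symm.trans h.tj.symm
    · exact hr.symm.trans h.ti1.symm

/-- A Sylow model with the standard fusion pattern. -/
theorem exists_pattern [IsSimpleGroup G]
    (hns : ∃ x y : G, orderOf x = 2 ∧ orderOf y = 2 ∧ ¬ IsConj x y) :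
    ∃ c' : Typed G 2, c'.S = c.S ∧ Pattern c' := by
  classical
  have hG : ¬ IsMulCommutative G := fun h => by
    obtain ⟨g, k, hgk⟩ := not_comm_model
    exact hgk (c.ι_inj (by rw [map_mul, map_mul]; exact h.is_comm.comm _ _))
  obtain ⟨ht, ht1, hr, hr1, hr', hr'1, -, -⟩ := t_sq
  obtain ⟨-, -, -, -, -, -, -, hi2, hi1, hj2, hj1, hk2, hk1⟩ := elem_facts
  have hu := c.t_conj_u hG
  set T := c.ι (t 2) with hT
  set R := c.ι (r (2 ^ 2)) with hR
  -- the partners of the transfers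
  have key : ∀ {y : M4} (f : M4 → Bool), (∀ g k, f (g * k) = xor (f g) (f k)) → y * y = 1 → f y = true →
      ∃ w, w * w = 1 ∧ w ≠ 1 ∧ f w = false ∧ IsConj (c.ι y) (c.ι (rep w)) := fun f hf hy hy1 => by
    obtain ⟨w, h1, h2, h3, h4, -⟩ := c.fused hG f hf hy hy1
    exact ⟨w, h1, h2, h3, h4.trans (conj_rep c h1 h2).symm⟩
  have he : ∀ {y : M4}, y * y = 1 → y.e = true → IsConj T (c.ι y) ∨ IsConj R (c.ι y) := fun hy hy1 => by
    obtain ⟨w, -, -, hw, hc⟩ := key (fun g => g.e) (fun g k => rfl) hy hy1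
    cases hs : w.s
    · rcases (rep_bits w).2.2.1 hs hw with e | e <;> rw [e] at hc
      · exact Or.inl hc.symm
      · exact Or.inl (hu.trans hc.symm)
    · rw [(rep_bits w).1 hs hw] at hc
      exact Or.inr hc.symm
  -- the exchange and the exchange with inversion
  have hrr : IsConj R (c.ι (r' (2 ^ 2))) := by
    obtain ⟨w, -, -, hw, hc⟩ := key (fun g : M4 => xor g.s g.e)
      (fun g k => by
        show xor (xor g.s k.s) (xor g.e k.e) = xor (xor g.s g.e) (xor k.s k.e)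
        cases g.s <;> cases g.e <;> cases k.s <;> cases k.e <;> rfl) hr rfl
    cases hs : w.s
    · have hwe : w.e = false := by simpa [hs] using hw
      rcases he hr' rfl with h | h
      · rcases (rep_bits w).2.2.1 hs hwe with e | e <;> rw [e] at hc
        · exact hc.trans h
        · exact hc.trans (hu.symm.trans h)
      · exact h
    · have hwe : w.e = true := by simpa [hs] using hw
      rw [(rep_bits w).2.1 hs hwe] at hc
      exact hc
  have hall : ∀ {w : M4}, w * w = 1 → w ≠ 1 → IsConj T (c.ι w) ∨ IsConj R (c.ι w) := fun {w} h h1 => by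
    cases hwe : w.e
    · cases hs : w.s
      · have hc := conj_rep c h h1
        rcases (rep_bits w).2.2.1 hs hwe with e | e <;> rw [e] at hc
        · exact Or.inl hc
        · exact Or.inl (hu.trans hc)
      · have hc := conj_rep c h h1
        rw [(rep_bits w).1 hs hwe] at hc
        exact Or.inr hc
    · exact he h hwe
  have hTR : ¬ IsConj T R := fun h => by
    obtain ⟨x, y, hx, hy, hxy⟩ := hns
    have hz : ∀ z : G, orderOf z = 2 → IsConj T z := fun z hz => by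
      obtain ⟨g, hg⟩ := Cfsg.Lib.TwoFusion.exists_conj_mem_sylow c.S (x := z) (k := 1) (by rw [hz, pow_one])
      obtain ⟨q, hq⟩ := c.exists_ι hg
      have ho : orderOf (c.ι q) = 2 := by rw [hq, ← MulAut.conj_apply, MulEquiv.orderOf_eq, hz]
      have hzq : IsConj z (c.ι q) := isConj_iff.2 ⟨g, hq.symm⟩
      rcases hall (c.inv_pre ho).1 (c.inv_pre ho).2 with h' | h'
      · exact h'.trans hzq.symm
      · exact (h.trans h').trans hzq.symm
    exact hxy ((hz x hx).symm.trans (hz y hy))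
  have hnot : ∀ {w : M4}, IsConj T (c.ι w) → ¬ IsConj R (c.ι w) := fun h h' => hTR (h.trans h'.symm)
  -- some inversion lies in the class of the exchange
  have hsome : IsConj R (c.ι i0) ∨ IsConj R (c.ι i01) ∨ IsConj R (c.ι i1) := by
    obtain ⟨w, h, h1, hw, hc⟩ := key (fun g : M4 => g.s) (fun g k => rfl) hr rfl
    cases hwe : w.e
    · exfalso
      rcases (rep_bits w).2.2.1 hw hwe with e | e <;> rw [e] at hc
      · exact hTR hc.symm
      · exact hTR (hu.trans hc.symm)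
    · rcases (rep_bits w).2.2.2 hw hwe with e | e | e <;> rw [e] at hc
      · exact Or.inl hc
      · exact Or.inr (Or.inl hc)
      · exact Or.inr (Or.inr hc)
  -- the strongly closed candidates
  have hclass : ∀ {p : M4}, IsConj T (c.ι p) → ∀ {q : M4}, q * q = 1 → q ≠ 1 → IsConj (c.ι p) (c.ι q) →
      IsConj T (c.ι (rep q)) := fun hp q hq hq1 hc => hp.trans (hc.trans (conj_rep c hq hq1).symm)
  have hrest : ∀ {q : M4}, q * q = 1 → q ≠ 1 → IsConj T (c.ι (rep q)) → rep q = t 2 ∨ rep q = u 2 ∨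
      (rep q = i0 ∧ IsConj T (c.ι i0)) ∨ (rep q = i01 ∧ IsConj T (c.ι i01)) ∨ (rep q = i1 ∧ IsConj T (c.ι i1)) := by
    intro q hq hq1 h
    cases hs : q.s <;> cases hwe : q.e
    · rcases (rep_bits q).2.2.1 hs hwe with e | e
      · exact Or.inl e
      · exact Or.inr (Or.inl e)
    · rcases (rep_bits q).2.2.2 hs hwe with e | e | e <;> rw [e] at h
      · exact Or.inr (Or.inr (Or.inl ⟨e, h⟩))
      · exact Or.inr (Or.inr (Or.inr (Or.inl ⟨e, h⟩)))
      · exact Or.inr (Or.inr (Or.inr (Or.inr ⟨e, h⟩)))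
    · rw [(rep_bits q).1 hs hwe] at h; exact absurd h hTR
    · rw [(rep_bits q).2.1 hs hwe] at h; exact absurd (h.trans hrr.symm) hTR
  have hrepT : ∀ {p : M4}, p * p = 1 → p ≠ 1 → IsConj T (c.ι (rep p)) → IsConj T (c.ι p) :=
    fun h h1 h2 => h2.trans (conj_rep c h h1)
  rcases hall hj2 hj1 with hjT | hjR
  · rcases hall hi2 hi1 with h0 | h0 <;> rcases hall hk2 hk1 with h1 | h1
    · rcases hsome with h | h | h
      · exact absurd h (hnot h0)
      · exact absurd h (hnot hjT)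
      · exact absurd h (hnot h1)
    · -- translate the inversions
      refine ⟨⟨c.S, shiftEquiv.trans c.e, c.two_le⟩, rfl, ?_⟩
      obtain ⟨s1, s2, s3, s4, s5, s6, s7, p4, p5, p6, p7, n4, n5, n6, n7⟩ := shift_vals
      have hι : ∀ q, (⟨c.S, shiftEquiv.trans c.e, c.two_le⟩ : Typed G 2).ι q = c.ι (shift q) := fun _ => rfl
      refine ⟨?_, ?_, ?_, ?_, ?_, ?_⟩ <;> rw [hι, hι]
      · rw [s1, s2]; exact hu
      · rw [s1, s3]; exact hTR
      · rw [s3]; refine hrr.trans ?_; have := conj_rep c p7 n7; rwa [s7] at this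
      · rw [s1]; refine h0.trans ?_; have := conj_rep c p4 n4; rwa [s4] at this
      · rw [s1]; refine hjT.trans ?_; have := conj_rep c p6 n6; rwa [s6] at this
      · rw [s3]; refine h1.trans ?_; have := conj_rep c p5 n5; rwa [s5] at this
    · exact ⟨c, rfl, hu, hTR, hrr, h1, hjT, h0⟩
    · rcases odd_move c hu with h | h
      · exact absurd h0 (hnot (hjT.trans h))
      · exact absurd h1 (hnot (hjT.trans h))
  · rcases hall hi2 hi1 with h0 | h0 <;> rcases hall hk2 hk1 with h1 | h1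
    · rcases odd_move c hu with h | h
      · exact absurd (hjR.trans h) (hnot h0)
      · exact absurd (hjR.trans h) (hnot h1)
    · -- the even inversions with the four-group
      refine absurd (no_closed c hns Cl1 (cl_one 1).1.2.1 (cl_one 1).2.2.2.1 (fun p q => (cl_sub p q).2.1)
        (fun p => (cl_one p).2.1.2.1) ?_ (fun p hp hp1 => ((cl_rep p).2.1 hp hp1).1)) id
      intro p hp hp1 q hq hq1 hc
      obtain ⟨hpp, hr⟩ := (cl_rep p).2.1 hp hp1
      have hpT : IsConj T (c.ι p) := hrepT hpp hp1 (by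
        rcases hr with e | e | e <;> rw [e]
        exacts [hu, h0])
      rcases hrest hq hq1 (hclass hpT hq hq1 hc) with e | e | ⟨e, -⟩ | ⟨-, h⟩ | ⟨-, h⟩
      · exact ((cl_rep q).2.2.2.1 hq (Or.inl e)).2.1
      · exact ((cl_rep q).2.2.2.1 hq (Or.inr e)).2.1
      · exact (cl_rep q).2.2.2.2.1 hq e
      · exact absurd hjR (hnot h)
      · exact absurd h1 (hnot h)
    · -- the odd inversions with the four-group
      refine absurd (no_closed c hns Cl2 (cl_one 1).1.2.2 (cl_one 1).2.2.2.2 (fun p q => (cl_sub p q).2.2)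
        (fun p => (cl_one p).2.1.2.2) ?_ (fun p hp hp1 => ((cl_rep p).2.2.1 hp hp1).1)) id
      intro p hp hp1 q hq hq1 hc
      obtain ⟨hpp, hr⟩ := (cl_rep p).2.2.1 hp hp1
      have hpT : IsConj T (c.ι p) := hrepT hpp hp1 (by
        rcases hr with e | e | e <;> rw [e]
        exacts [hu, h1])
      rcases hrest hq hq1 (hclass hpT hq hq1 hc) with e | e | ⟨-, h⟩ | ⟨-, h⟩ | ⟨e, -⟩
      · exact ((cl_rep q).2.2.2.1 hq (Or.inl e)).2.2
      · exact ((cl_rep q).2.2.2.1 hq (Or.inr e)).2.2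
      · exact absurd h0 (hnot h)
      · exact absurd hjR (hnot h)
      · exact (cl_rep q).2.2.2.2.2 hq e
    · -- the four-group alone
      refine absurd (no_closed c hns Cl0 (cl_one 1).1.1 (cl_one 1).2.2.1 (fun p q => (cl_sub p q).1)
        (fun p => (cl_one p).2.1.1) ?_ (fun p hp hp1 => ((cl_rep p).1 hp hp1).1)) id
      intro p hp hp1 q hq hq1 hc
      obtain ⟨hpp, hr⟩ := (cl_rep p).1 hp hp1
      have hpT : IsConj T (c.ι p) := hrepT hpp hp1 (by
        rcases hr with e | e <;> rw [e]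
        exact hu)
      rcases hrest hq hq1 (hclass hpT hq hq1 hc) with e | e | ⟨-, h⟩ | ⟨-, h⟩ | ⟨-, h⟩
      · exact ((cl_rep q).2.2.2.1 hq (Or.inl e)).1
      · exact ((cl_rep q).2.2.2.1 hq (Or.inr e)).1
      · exact absurd h0 (hnot h)
      · exact absurd hjR (hnot h)
      · exact absurd h1 (hnot h)

end Cfsg.Lib.MTwelveType
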