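import Cfsg.Agent.MTwelveType.Core
import Cfsg.Agent.S3344

/-!
# A simple group with Sylow 2-subgroups of type `M₁₂` and two classes of involutions is `M₁₂`
-/

set_option autoImplicit false
set_option linter.unusedSectionVars false
set_option linter.style.haveILetI false
set_option maxRecDepth 100000
set_option maxHeartbeats 800000
set_option synthInstance.maxSize 4096
set_option synthInstance.maxHeartbeats 400000

namespace Cfsg.Lib.MTwelveType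

open Subgroup
open Cfsg.Lib.GTwoType Cfsg.Lib.GTwoType.Mdl
open Cfsg.Lib.GTwoCent (M0 jj commute_T tt)
open Cfsg.Lib.Walter (Oc Qt qm mem_Oc)

universe v

/-- The involutions of the model. -/
def invols : List M4 :=
  [⟨2,2,false,false⟩, ⟨2,0,false,false⟩, ⟨0,2,false,false⟩] ++
  ([0,1,2,3].flatMap fun x => [0,1,2,3].map fun y => (⟨x,y,false,true⟩ : M4)) ++
  ([0,1,2,3].map fun x => (⟨x,-x,true,false⟩ : M4)) ++ ([0,1,2,3].map fun x => (⟨x,x,true,true⟩ : M4))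
theorem mem_invols : ∀ a : M4, a * a = 1 → a ≠ 1 → a ∈ invols := by decide +kernel
/-- Commuting. -/
def cm (a b : M4) : Bool := decide (a * b = b * a)
/-- The check for elementary groups of order sixteen. -/
def chk : Bool := invols.all fun a =>
  let l1 := invols.filter fun b => cm a b && !decide (b = a)
  l1.all fun b =>
    let ab := a * b
    let l2 := l1.filter fun e => cm b e && !decide (e = b) && !decide (e = ab)
    l2.all fun e =>
      let ae := a * e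
      let be := b * e
      let abe := ab * e
      l2.all fun f => !(cm e f) || decide (f = e) || decide (f = ae) || decide (f = be) || decide (f = abe)
theorem chk_eq : chk = true := by decide +kernel
theorem no_sixteen_model : ∀ a : M4, a * a = 1 → a ≠ 1 →
    ∀ b : M4, b * b = 1 → a * b = b * a → b ≠ 1 → b ≠ a →
    ∀ e : M4, e * e = 1 → a * e = e * a → b * e = e * b → e ≠ 1 → e ≠ a → e ≠ b → e ≠ a * b →
    ∀ f : M4, f * f = 1 → a * f = f * a → b * f = f * b → e * f = f * e →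
      f = 1 ∨ f = a ∨ f = b ∨ f = a * b ∨ f = e ∨ f = a * e ∨ f = b * e ∨ f = a * b * e := by
  intro a ha ha1 b hb hab hb1 hba e he hae hbe he1 hea heb heab f hf haf hbf hef
  by_cases f1 : f = 1
  · exact Or.inl f1
  by_cases fa : f = a
  · exact Or.inr (Or.inl fa)
  by_cases fb : f = b
  · exact Or.inr (Or.inr (Or.inl fb))
  by_cases fab : f = a * b
  · exact Or.inr (Or.inr (Or.inr (Or.inl fab)))
  have h := chk_eq
  simp only [chk, List.all_eq_true] at h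
  have := h a (mem_invols a ha ha1) b (List.mem_filter.2 ⟨mem_invols b hb hb1, by simp [cm, hab, hba]⟩) e
    (List.mem_filter.2 ⟨List.mem_filter.2 ⟨mem_invols e he he1, by simp [cm, hae, hea]⟩, by simp [cm, hbe, heb, heab]⟩) f
    (List.mem_filter.2 ⟨List.mem_filter.2 ⟨mem_invols f hf f1, by simp [cm, haf, fa]⟩, by simp [cm, hbf, fb, fab]⟩)
  simp only [cm, hef, Bool.or_eq_true, Bool.not_eq_true', decide_eq_true_eq, decide_true] at this
  tauto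

variable {G : Type v} [Group G] [Finite G]

/-- No elementary group of order sixteen. -/
theorem no_sixteen (c : Typed G 2) (w : Fin 4 → G) (hsq : ∀ i, w i * w i = 1) (hc : ∀ i j, w i * w j = w j * w i)
    (h1 : w 0 ≠ 1 ∧ w 1 ≠ 1 ∧ w 1 ≠ w 0 ∧ w 2 ≠ 1 ∧ w 2 ≠ w 0 ∧ w 2 ≠ w 1 ∧ w 2 ≠ w 0 * w 1)
    (h2 : w 3 ≠ 1 ∧ w 3 ≠ w 0 ∧ w 3 ≠ w 1 ∧ w 3 ≠ w 0 * w 1 ∧ w 3 ≠ w 2 ∧ w 3 ≠ w 0 * w 2 ∧ w 3 ≠ w 1 * w 2 ∧
      w 3 ≠ w 0 * w 1 * w 2) : False := by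
  haveI : Fact (Nat.Prime 2) := ⟨Nat.prime_two⟩
  set X := closure (Set.range w) with hX
  have hcomm : IsMulCommutative X := Subgroup.isMulCommutative_closure (by
    rintro _ ⟨i, rfl⟩ _ ⟨j, rfl⟩; exact hc i j)
  have hXp : IsPGroup 2 X := by
    intro x
    refine ⟨1, Subtype.ext ?_⟩
    obtain ⟨x, hx⟩ := x
    show x ^ 2 ^ 1 = 1
    rw [pow_one, pow_two]
    induction hx using closure_induction with
    | mem y hy => obtain ⟨i, rfl⟩ := hy; exact hsq i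
    | one => exact one_mul 1
    | mul y z hy hz e1 e2 =>
      have hyz : y * z = z * y := congrArg Subtype.val (hcomm.is_comm.comm (⟨y, hy⟩ : X) ⟨z, hz⟩)
      rw [(show Commute z y from hyz.symm).mul_mul_mul_comm, e1, e2, mul_one]
    | inv y _ e => rw [← _root_.mul_inv_rev, e, inv_one]
  obtain ⟨g, -, hg⟩ := Cfsg.Lib.TwoFusion.exists_sylow_conj (H := ⊤) c.S le_top hXp le_top
  have hpre : ∀ i, ∃ q, c.ι q = g * w i * g⁻¹ := fun i => c.exists_ι (hg _ (subset_closure ⟨i, rfl⟩))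
  choose q hq using hpre
  let σ : M4 → G := fun x => g⁻¹ * c.ι x * g
  have hσ : ∀ i, σ (q i) = w i := fun i => by simp only [σ, hq i]; group
  have hσm : ∀ x y, σ (x * y) = σ x * σ y := fun x y => by simp only [σ, map_mul]; group
  have hσ1 : σ 1 = 1 := by simp only [σ, map_one]; group
  have hσi : Function.Injective σ := fun x y h => c.ι_inj (mul_left_cancel (mul_right_cancel h))
  have hs : ∀ i, q i * q i = 1 := fun i => hσi (by rw [hσm, hσ, hsq, hσ1])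
  have hcq : ∀ i j, q i * q j = q j * q i := fun i j => hσi (by rw [hσm, hσm, hσ, hσ, hc])
  rcases no_sixteen_model (q 0) (hs 0) (fun e => h1.1 (by rw [← hσ 0, e, hσ1])) (q 1) (hs 1) (hcq 0 1)
    (fun e => h1.2.1 (by rw [← hσ 1, e, hσ1])) (fun e => h1.2.2.1 (by rw [← hσ 1, e, hσ 0]))
    (q 2) (hs 2) (hcq 0 2) (hcq 1 2) (fun e => h1.2.2.2.1 (by rw [← hσ 2, e, hσ1]))
    (fun e => h1.2.2.2.2.1 (by rw [← hσ 2, e, hσ 0])) (fun e => h1.2.2.2.2.2.1 (by rw [← hσ 2, e, hσ 1]))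
    (fun e => h1.2.2.2.2.2.2 (by rw [← hσ 2, e, hσm, hσ 0, hσ 1]))
    (q 3) (hs 3) (hcq 0 3) (hcq 1 3) (hcq 2 3) with e | e | e | e | e | e | e | e
  · exact h2.1 (by rw [← hσ 3, e, hσ1])
  · exact h2.2.1 (by rw [← hσ 3, e, hσ 0])
  · exact h2.2.2.1 (by rw [← hσ 3, e, hσ 1])
  · exact h2.2.2.2.1 (by rw [← hσ 3, e, hσm, hσ 0, hσ 1])
  · exact h2.2.2.2.2.1 (by rw [← hσ 3, e, hσ 2])
  · exact h2.2.2.2.2.2.1 (by rw [← hσ 3, e, hσm, hσ 0, hσ 2])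
  · exact h2.2.2.2.2.2.2.1 (by rw [← hσ 3, e, hσm, hσ 1, hσ 2])
  · exact h2.2.2.2.2.2.2.2 (by rw [← hσ 3, e, hσm, hσm, hσ 0, hσ 1, hσ 2])

theorem alt_eight : ∃ w : Fin 4 → alternatingGroup (Fin 8), (∀ i, w i * w i = 1) ∧
    (∀ i j, w i * w j = w j * w i) ∧
    (w 0 ≠ 1 ∧ w 1 ≠ 1 ∧ w 1 ≠ w 0 ∧ w 2 ≠ 1 ∧ w 2 ≠ w 0 ∧ w 2 ≠ w 1 ∧ w 2 ≠ w 0 * w 1) ∧
    (w 3 ≠ 1 ∧ w 3 ≠ w 0 ∧ w 3 ≠ w 1 ∧ w 3 ≠ w 0 * w 1 ∧ w 3 ≠ w 2 ∧ w 3 ≠ w 0 * w 2 ∧ w 3 ≠ w 1 * w 2 ∧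
      w 3 ≠ w 0 * w 1 * w 2) :=
  ⟨![⟨Equiv.swap 0 1 * Equiv.swap 2 3, Equiv.Perm.mem_alternatingGroup.2 (by decide +kernel)⟩, ⟨Equiv.swap 0 2 * Equiv.swap 1 3, Equiv.Perm.mem_alternatingGroup.2 (by decide +kernel)⟩,
    ⟨Equiv.swap 4 5 * Equiv.swap 6 7, Equiv.Perm.mem_alternatingGroup.2 (by decide +kernel)⟩, ⟨Equiv.swap 4 6 * Equiv.swap 5 7, Equiv.Perm.mem_alternatingGroup.2 (by decide +kernel)⟩],
    by decide +kernel⟩

theorem alt_nine : ∃ w : Fin 4 → alternatingGroup (Fin 9), (∀ i, w i * w i = 1) ∧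
    (∀ i j, w i * w j = w j * w i) ∧
    (w 0 ≠ 1 ∧ w 1 ≠ 1 ∧ w 1 ≠ w 0 ∧ w 2 ≠ 1 ∧ w 2 ≠ w 0 ∧ w 2 ≠ w 1 ∧ w 2 ≠ w 0 * w 1) ∧
    (w 3 ≠ 1 ∧ w 3 ≠ w 0 ∧ w 3 ≠ w 1 ∧ w 3 ≠ w 0 * w 1 ∧ w 3 ≠ w 2 ∧ w 3 ≠ w 0 * w 2 ∧ w 3 ≠ w 1 * w 2 ∧
      w 3 ≠ w 0 * w 1 * w 2) :=
  ⟨![⟨Equiv.swap 0 1 * Equiv.swap 2 3, Equiv.Perm.mem_alternatingGroup.2 (by decide +kernel)⟩, ⟨Equiv.swap 0 2 * Equiv.swap 1 3, Equiv.Perm.mem_alternatingGroup.2 (by decide +kernel)⟩,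
    ⟨Equiv.swap 4 5 * Equiv.swap 6 7, Equiv.Perm.mem_alternatingGroup.2 (by decide +kernel)⟩, ⟨Equiv.swap 4 6 * Equiv.swap 5 7, Equiv.Perm.mem_alternatingGroup.2 (by decide +kernel)⟩],
    by decide +kernel⟩

/-- No group with these Sylow subgroups is a copy of a group with four such involutions. -/
theorem not_equiv (c : Typed G 2) {A : Type*} [Group A] (e : G ≃* A)
    (h : ∃ w : Fin 4 → A, (∀ i, w i * w i = 1) ∧ (∀ i j, w i * w j = w j * w i) ∧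
      (w 0 ≠ 1 ∧ w 1 ≠ 1 ∧ w 1 ≠ w 0 ∧ w 2 ≠ 1 ∧ w 2 ≠ w 0 ∧ w 2 ≠ w 1 ∧ w 2 ≠ w 0 * w 1) ∧
      (w 3 ≠ 1 ∧ w 3 ≠ w 0 ∧ w 3 ≠ w 1 ∧ w 3 ≠ w 0 * w 1 ∧ w 3 ≠ w 2 ∧ w 3 ≠ w 0 * w 2 ∧ w 3 ≠ w 1 * w 2 ∧
        w 3 ≠ w 0 * w 1 * w 2)) : False := by
  obtain ⟨w, hs, hc, h1, h2⟩ := h
  refine no_sixteen c (fun i => e.symm (w i)) (fun i => by rw [← map_mul, hs, map_one])
    (fun i j => by rw [← map_mul, hc, map_mul]) ?_ ?_
  · simpa [← map_mul] using h1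
  · simpa [← map_mul] using h2

theorem main [IsSimpleGroup G] (S : Sylow 2 G) (P : Sylow 2 ↥Cfsg.Spor.M12)
    (hS : Nonempty (↥(S : Subgroup G) ≃* ↥(P : Subgroup ↥Cfsg.Spor.M12)))
    (h2 : ∃ x y : G, orderOf x = 2 ∧ orderOf y = 2 ∧ ¬ IsConj x y) : Cfsg.Spor.IsoM12 G := by
  classical
  haveI : Fact (Nat.Prime 2) := ⟨Nat.prime_two⟩
  haveI : Fact (Nat.Prime 3) := ⟨Nat.prime_three⟩
  obtain ⟨c₀, -⟩ := exists_typed S P hS
  obtain ⟨c, -, hp⟩ := exists_pattern c₀ h2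
  set T := c.ι (t 2) with hT
  set L := centralizer ({T} : Set G) with hL
  obtain ⟨D, hD⟩ := exists_ccore hp
  have hO := core_trivial hD hp h2
  have hqm : Function.Injective (qm T) := (injective_iff_map_eq_one _).2 fun x hx => by
    have h : (x : G) ∈ Oc T := mem_Oc.2 ⟨x.2, hx⟩
    rw [hO, mem_bot] at h
    exact Subtype.ext h
  have hqs : Function.Surjective (qm T) := QuotientGroup.mk'_surjective _
  set π : ↥L →* Equiv.Perm (Fin 3) := D.perm.comp (qm T) with hπ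
  have hker : π.ker = D.Q0.comap (qm T) := by rw [hπ, ← D.perm_ker, MonoidHom.comap_ker]
  have hcore : Cfsg.pCore 2 ↥L = π.ker := by
    rw [hker]
    haveI := D.Q0_normal
    refine le_antisymm ?_ (Cfsg.Lib.Components.le_pCore (D.isPGroup_Q0.comap_of_injective _ hqm))
    haveI : ((Cfsg.pCore 2 ↥L).map (qm T)).Normal := Subgroup.Normal.map inferInstance _ hqs
    rw [← map_le_iff_le_comap, ← D.pCore_eq]
    exact Cfsg.Lib.Components.le_pCore ((Cfsg.Lib.Components.isPGroup_pCore 2).map _)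
  set Q := (Cfsg.pCore 2 ↥L).map L.subtype with hQ
  have hQe : Q = (M0 (2 ^ 2)).map c.ι := by
    rw [hQ, hcore, hker]
    refine le_antisymm ?_ ?_
    · rintro _ ⟨x, hx, rfl⟩
      obtain ⟨q, hq, e⟩ := D.mem_Q0.1 hx
      refine ⟨q, inn_iff.2 hq, congrArg Subtype.val (hqm ?_ : (⟨c.ι q, ι_cent q⟩ : ↥L) = x)⟩
      rw [qm_ι hD, e]
    · rintro _ ⟨q, hq, rfl⟩
      exact ⟨⟨c.ι q, ι_cent q⟩, D.mem_Q0.2 ⟨q, inn_iff.1 hq, (qm_ι hD q).symm⟩, rfl⟩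
  have hQcard : Nat.card Q = 32 := by
    rw [hQe, card_map_of_injective c.ι_inj, CCore.card_inn]
  have hQex : Cfsg.IsExtraspecial 2 Q := by
    obtain ⟨hsq, hc, hcm, ⟨q, hq, p, hp', hqp⟩, -⟩ := extra_facts
    have hmem : ∀ {x : G}, x ∈ Q → ∃ q, Inn q ∧ c.ι q = x := fun {x} hx => by
      rw [hQe] at hx
      obtain ⟨q, hq, e⟩ := hx
      exact ⟨q, inn_iff.1 hq, e⟩
    have hin : ∀ {q : M4}, Inn q → c.ι q ∈ Q := fun {q} hq => hQe ▸ mem_map_of_mem c.ι (inn_iff.2 hq)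
    refine Cfsg.Lib.LargeExtra.isExtraspecial_of (z := T)
      (IsPGroup.of_card (n := 5) (by rw [hQcard]; norm_num)) (hin inn_facts.2.2.2.1) ?_ ?_ ?_ ?_ ?_ ?_ ?_
    · exact fun e => t_sq.2.1 (c.ι_inj (e.trans (map_one _).symm))
    · rw [hT, ← map_mul, tt, map_one]
    · intro a ha
      obtain ⟨a, -, rfl⟩ := hmem ha
      exact commute_T c a
    · rintro a ha b hb
      obtain ⟨a, hai, rfl⟩ := hmem ha
      obtain ⟨b, hbi, rfl⟩ := hmem hb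
      rw [commutatorElement_def, ← map_inv, ← map_inv, ← map_mul, ← map_mul, ← map_mul]
      exact (hcm a hai b hbi).imp (fun e => by rw [e, map_one]) fun e => by rw [e]
    · rintro a ha
      obtain ⟨a, hai, rfl⟩ := hmem ha
      rw [← map_mul]
      exact (hsq a hai).imp (fun e => by rw [e, map_one]) fun e => by rw [e]
    · rintro a ha hcomm
      obtain ⟨a, hai, rfl⟩ := hmem ha
      refine (hc a hai fun b hb => c.ι_inj ?_).imp (fun e => by rw [e, map_one]) fun e => by rw [e]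
      rw [map_mul, map_mul]
      exact (hcomm _ (hin hb)).symm.eq
    · refine ⟨_, hin hq, _, hin hp', fun e => hqp (c.ι_inj ?_)⟩
      rw [map_mul, map_mul]
      exact e.eq
  have hπs : Function.Surjective π := D.perm_surjective.comp hqs
  let e : ↥L ⧸ Cfsg.pCore 2 ↥L ≃* Equiv.Perm (Fin 3) :=
    (QuotientGroup.quotientMulEquivOfEq hcore).trans (QuotientGroup.quotientKerEquivOfSurjective π hπs)
  obtain ⟨X⟩ : Nonempty (Sylow 3 ↥L) := inferInstance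
  have hX : ∃ x ∈ (X : Subgroup ↥L), x ≠ 1 := by
    refine ((X : Subgroup ↥L).bot_or_exists_ne_one).resolve_left fun hb => ?_
    refine X.not_dvd_index ?_
    rw [hb, index_bot]
    refine dvd_trans ?_ (Subgroup.card_dvd_of_surjective π hπs)
    rw [Nat.card_perm, Nat.card_fin]
    decide
  have hCQX : Q ⊓ centralizer (((X : Subgroup ↥L).map L.subtype : Subgroup G) : Set G) = zpowers T := by
    refine le_antisymm (fun y hy => ?_) (zpowers_le.2 ⟨?_, ?_⟩)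
    · obtain ⟨x, hx, hx1⟩ := hX
      obtain ⟨hyQ, hyc⟩ := hy
      rw [SetLike.mem_coe, hQe] at hyQ
      obtain ⟨q, hq, rfl⟩ := hyQ
      have hodd : Odd (orderOf (qm T x)) := by
        obtain ⟨k, hk⟩ := IsPGroup.iff_orderOf.1 X.2 ⟨x, hx⟩
        rw [Subgroup.orderOf_mk] at hk
        exact ((by decide : Odd 3).pow (n := k)).of_dvd_nat (hk ▸ orderOf_map_dvd (qm T) x)
      have hxQ : qm T x ∉ D.Q0 := fun h => by
        obtain ⟨k, hk⟩ := D.isPGroup_Q0 ⟨_, h⟩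
        refine hx1 (hqm ?_)
        rw [map_one]
        exact orderOf_eq_one_iff.1 (Nat.eq_one_of_dvd_coprimes ((Nat.coprime_two_left.2 hodd).pow_left k)
          (orderOf_dvd_of_pow_eq_one (congrArg Subtype.val hk)) dvd_rfl)
      have hcom : x * (⟨c.ι q, ι_cent q⟩ : ↥L) = ⟨c.ι q, ι_cent q⟩ * x :=
        Subtype.ext (mem_centralizer_iff.1 hyc _ ⟨x, hx, rfl⟩)
      have h' := congrArg (qm T) hcom
      rw [map_mul, map_mul, qm_ι hD] at h'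
      rcases D.fixed_le hodd hxQ (inn_iff.1 hq) h' with rfl | rfl
      · rw [map_one]; exact one_mem _
      · exact mem_zpowers _
    · rw [SetLike.mem_coe, hQe]; exact mem_map_of_mem c.ι (inn_iff.2 inn_facts.2.2.2.1)
    · refine mem_centralizer_iff.2 fun y hy => ?_
      obtain ⟨x, -, rfl⟩ := hy
      exact mem_centralizer_singleton_iff.1 x.2
  have hnwc : ∃ g : G, g * T * g⁻¹ ∈ Q ∧ g * T * g⁻¹ ≠ T := by
    obtain ⟨g, hg⟩ := isConj_iff.1 hp.tu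
    refine ⟨g, ?_, ?_⟩ <;> rw [hg]
    · rw [hQe]; exact mem_map_of_mem c.ι (inn_iff.2 extra_facts.2.2.2.2.2.2.1)
    · exact fun h => Cfsg.Lib.GTwoCent.u_ne_t (a := 2) (by norm_num) (c.ι_inj h)
  rcases Cfsg.Agent.S3344.result T (orderOf_T c) L rfl Q rfl hQex hQcard e X hCQX hnwc with
    ⟨N, hN, hab, -, h8, -⟩ | ⟨⟨f⟩⟩ | ⟨⟨f⟩⟩ | h
  · exfalso
    rcases IsSimpleGroup.eq_bot_or_eq_top_of_normal N hN with rfl | rfl
    · rw [card_bot] at h8; omega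
    · obtain ⟨g, k, hgk⟩ := not_comm_model
      exact hgk (c.ι_inj (by
        rw [map_mul, map_mul]
        exact congrArg Subtype.val (hab.is_comm.comm (⟨_, mem_top _⟩ : (⊤ : Subgroup G)) ⟨_, mem_top _⟩)))
  · exact (not_equiv c f alt_eight).elim
  · exact (not_equiv c f alt_nine).elim
  · exact h

end Cfsg.Lib.MTwelveType
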