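import Cfsg.Agent.MTwelveType.QuotModel
import Cfsg.Agent.MTwelveType.Fpf
import Cfsg.Agent.BenderSE.Ring2.CentralKernel
import Cfsg.Agent.GWDihedral.Shell.Target
import Cfsg.Agent.LargeExtra.Coprime

/-!
# The centraliser modulo its odd core is an extension of an extraspecial group by the symmetric group of degree three
-/

set_option autoImplicit false
set_option linter.unusedSectionVars false
set_option linter.style.haveILetI false
set_option maxRecDepth 100000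
set_option maxHeartbeats 800000
set_option synthInstance.maxSize 4096
set_option synthInstance.maxHeartbeats 400000

namespace Cfsg.Lib.MTwelveType

open Subgroup
open Cfsg.Lib.GTwoType Cfsg.Lib.GTwoType.Mdl
open Cfsg.Lib.GTwoCent (M0 jj jj_notMem jj_sq tt)

universe v

theorem inn_iff {q : M4} : q ∈ M0 (2 ^ 2) ↔ Inn q := M0_iff

theorem perm_gen : ∀ π : Equiv.Perm (Fin 3), π 1 = 0 → ∀ σ : Equiv.Perm (Fin 3), ∃ i k : Fin 2, ∃ j : Fin 3,
    σ = Equiv.swap 1 2 ^ (i : ℕ) * π ^ (j : ℕ) * Equiv.swap 1 2 ^ (k : ℕ) := by decide +kernel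

theorem perm_two : ∀ x : Equiv.Perm (Fin 3), x ≠ 1 → x * x = 1 → ∃ g : Equiv.Perm (Fin 3),
    (x * (g * x * g⁻¹)) ^ 3 = 1 ∧ x * (g * x * g⁻¹) ≠ 1 := by decide +kernel

theorem perm_two_el : ∀ x : Equiv.Perm (Fin 3), x ^ 3 = 1 ∨ x * x = 1 := by decide +kernel

namespace CCore

variable {H : Type v} [Group H] [Finite H] (d : CCore H)

/-- The model inside the group. -/
abbrev ι : M4 →* H := d.toTyped.ι

theorem comm_t (h : H) : h * d.ι (t 2) = d.ι (t 2) * h := mem_center_iff.1 d.central h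

theorem conj_t (h : H) : h * d.ι (t 2) * h⁻¹ = d.ι (t 2) := by rw [d.comm_t, mul_inv_cancel_right]

theorem t_mem_K : d.ι (t 2) ∈ d.K := (d.mem_K _).2 (inn_iff.2 inn_facts.2.2.2.1)

/-- The centre inside the subgroup of index two. -/
def zK : Subgroup d.K := (zpowers (d.ι (t 2))).subgroupOf d.K

theorem zK_center : d.zK ≤ center d.K := fun z hz => by
  obtain ⟨i, hi⟩ := mem_zpowers_iff.1 (mem_subgroupOf.1 hz)
  refine mem_center_iff.2 fun x => Subtype.ext ?_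
  simp only [Subgroup.coe_mul]
  rw [← hi]
  exact ((show Commute (x : H) (d.ι (t 2)) from d.comm_t x).zpow_right i).eq

instance : d.zK.Normal :=
  ⟨fun z hz g => by rw [mem_center_iff.1 (d.zK_center hz) g, mul_inv_cancel_right]; exact hz⟩

theorem zpowers_t {x : H} : x ∈ zpowers (d.ι (t 2)) ↔ x = 1 ∨ x = d.ι (t 2) := by
  constructor
  · rintro ⟨i, rfl⟩
    have h2 : d.ι (t 2) ^ (2 : ℤ) = 1 := by rw [zpow_two, ← map_mul, tt, map_one]
    rcases Int.even_or_odd i with ⟨j, rfl⟩ | ⟨j, rfl⟩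
    · left; show d.ι (t 2) ^ (j + j) = 1
      rw [← two_mul, _root_.zpow_mul, h2, one_zpow]
    · right; show d.ι (t 2) ^ (2 * j + 1) = _
      rw [zpow_add, _root_.zpow_mul, h2, one_zpow, one_mul, zpow_one]
  · rintro (rfl | rfl)
    · exact one_mem _
    · exact mem_zpowers _

/-- The inner part inside the subgroup of index two. -/
def inK : ↥(M0 (2 ^ 2)) →* ↥d.K := (d.ι.comp (M0 (2 ^ 2)).subtype).codRestrict d.K fun q => (d.mem_K q).2 q.2

/-- The quotient map on the inner part. -/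
def bar : ↥(M0 (2 ^ 2)) →* ↥d.K ⧸ d.zK := (QuotientGroup.mk' d.zK).comp d.inK

theorem bar_eq_one {q : ↥(M0 (2 ^ 2))} : d.bar q = 1 ↔ Eqv (q : M4) 1 := by
  refine (QuotientGroup.eq_one_iff _).trans (mem_subgroupOf.trans (d.zpowers_t.trans ?_))
  show d.ι q = 1 ∨ d.ι q = d.ι (t 2) ↔ _
  rw [← map_one d.ι, d.toTyped.ι_inj.eq_iff, d.toTyped.ι_inj.eq_iff, Eqv, mul_one]

theorem bar_eqv {p q : ↥(M0 (2 ^ 2))} : d.bar p = d.bar q ↔ Eqv (p : M4) q := by
  rw [← mul_inv_eq_one, ← map_inv, ← map_mul, bar_eq_one]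
  simp only [Subgroup.coe_mul, Subgroup.coe_inv]
  refine ⟨fun h => ?_, fun h => ?_⟩
  · have := h.mul (Eqv.refl (q : M4))
    rwa [inv_mul_cancel_right, one_mul] at this
  · exact mul_inv_cancel (q : M4) ▸ h.mul (Eqv.refl _)

theorem exists_sylow : ∃ W : Sylow 2 (↥d.K ⧸ d.zK), (W : Subgroup (↥d.K ⧸ d.zK)) = d.bar.range := by
  haveI : Fact (Nat.Prime 2) := ⟨Nat.prime_two⟩
  haveI := d.K_normal
  obtain ⟨V, hV⟩ := Cfsg.Lib.GWD.sylow_of_inter d.S d.K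
  refine ⟨V.mapSurjective (QuotientGroup.mk'_surjective d.zK), ?_⟩
  have : (V : Subgroup d.K) = d.inK.range := by
    ext x
    constructor
    · intro hx
      have h := hV.le (mem_map_of_mem d.K.subtype hx)
      obtain ⟨q, hq⟩ := d.toTyped.exists_ι h.1
      exact ⟨⟨q, (d.mem_K q).1 (by rw [hq]; exact h.2)⟩, Subtype.ext hq⟩
    · rintro ⟨q, rfl⟩
      obtain ⟨y, hy, hyq⟩ := hV.ge ⟨d.toTyped.ι_mem q, (d.mem_K q).2 q.2⟩
      have hy' : y = d.inK q := Subtype.ext hyq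
      rwa [hy'] at hy
  rw [bar, MonoidHom.range_comp, ← this]
  rfl

theorem bar_noOdd : Cfsg.oddCore (↥d.K ⧸ d.zK) = ⊥ := by
  haveI : Fact (Nat.Prime 2) := ⟨Nat.prime_two⟩
  haveI := d.K_normal
  obtain ⟨V, hV⟩ := Cfsg.Lib.GWD.sylow_of_inter d.S d.K
  refine Cfsg.Lib.BenderSE.Ring2.oddCore_quot_bot ?_ V d.zK (fun z hz => ?_) d.zK_center
  · have hno : Cfsg.Lib.GenDihedral.NoOdd H := fun N hN ho => by
      have := @Cfsg.Lib.Components.le_pPrimeCore _ _ 2 N hN (Nat.coprime_two_right.2 ho)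
      exact le_bot_iff.1 (this.trans d.noOdd.le)
    exact Cfsg.Lib.GenDihedral.noOdd_sub hno d.K _ inferInstance
      (Nat.coprime_two_right.1 (Cfsg.Lib.Components.coprime_card_pPrimeCore 2))
  · have hT : (z : H) ∈ (d.S : Subgroup H) := zpowers_le.2 (d.toTyped.ι_mem _) hz
    obtain ⟨y, hy, hyz⟩ := hV.ge ⟨hT, z.2⟩
    rwa [show y = z from d.K.subtype_injective hyz] at hy

theorem bar_sq {x : ↥d.K ⧸ d.zK} (hx : x ∈ d.bar.range) : x * x = 1 := by
  obtain ⟨q, rfl⟩ := hx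
  rw [← map_mul, bar_eq_one, Subgroup.coe_mul]
  exact (extra_facts.1 _ (inn_iff.1 q.2)).imp id fun e => by rw [e, mul_one]

theorem card_inn : Nat.card ↥(M0 (2 ^ 2)) = 32 := by
  classical
  rw [← extra_facts.2.2.2.2.1, ← Fintype.card_coe, ← Nat.card_eq_fintype_card]
  exact Nat.card_congr (Equiv.subtypeEquivRight fun q => inn_iff.trans
    (Finset.mem_filter.trans (and_iff_right (Finset.mem_univ q))).symm)

theorem card_bar : 8 ≤ Nat.card d.bar.range := by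
  have h2 : Nat.card d.bar.ker ≤ 2 := by
    classical
    refine le_trans (Nat.card_le_card_of_injective
      (fun q : d.bar.ker => if ((q : ↥(M0 (2 ^ 2))) : M4) = 1 then (0 : Fin 2) else 1) fun p q h => ?_)
      (le_of_eq (Nat.card_fin 2))
    have hp := d.bar_eq_one.1 p.2
    have hq := d.bar_eq_one.1 q.2
    refine Subtype.ext (Subtype.ext ?_)
    by_cases a : ((p : ↥(M0 (2 ^ 2))) : M4) = 1
    · by_cases b : ((q : ↥(M0 (2 ^ 2))) : M4) = 1
      · exact a.trans b.symm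
      · simp [a, b] at h
    · by_cases b : ((q : ↥(M0 (2 ^ 2))) : M4) = 1
      · simp [a, b] at h
      · exact (hp.resolve_left a).trans (hq.resolve_left b).symm
  have := d.bar.ker.card_mul_index
  rw [index_ker, card_inn] at this
  nlinarith

/-- Conjugation by an element carrying the inner part into itself preserves the fused involutions. -/
theorem exists_map {g : H} (hg : ∀ q, Inn q → ∃ q', Inn q' ∧ g * d.ι q * g⁻¹ = d.ι q') :
    ∃ σ, Map σ ∧ ∀ q, Inn q → g * d.ι q * g⁻¹ = d.ι (σ q) := by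
  classical
  choose f hf hfe using hg
  set σ : M4 → M4 := fun q => if h : Inn q then f q h else 1 with hσ
  have he : ∀ q, Inn q → g * d.ι q * g⁻¹ = d.ι (σ q) := fun q hq => by simp only [hσ, dif_pos hq]; exact hfe q hq
  have hin : ∀ q, Inn q → Inn (σ q) := fun q hq => by simp only [hσ, dif_pos hq]; exact hf q hq
  refine ⟨σ, ⟨hin, fun p q hp hq => d.toTyped.ι_inj ?_, d.toTyped.ι_inj ?_, fun q hq h1 => d.toTyped.ι_inj ?_,
    fun q hq hqq hq1 => ?_⟩, he⟩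
  · rw [← he _ (inn_facts.1 p q hp hq), map_mul, map_mul d.toTyped.ι (σ p), ← he p hp, ← he q hq]; group
  · rw [← he _ inn_facts.2.2.2.1, d.conj_t]
  · have h := he q hq
    rw [h1, map_one, conj_eq_one_iff] at h
    rw [map_one]
    exact h
  · have h := he q hq
    have ho : orderOf (d.ι (σ q)) = 2 := by
      rw [← h, ← MulAut.conj_apply, MulEquiv.orderOf_eq, d.toTyped.order_ι hqq hq1]
    exact (d.sep q _ hqq hq1 (d.toTyped.inv_pre ho).1 (d.toTyped.inv_pre ho).2 (isConj_iff.2 ⟨g, h⟩)).symm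

/-- A preimage of an element normalising the image of the inner part normalises the inner part. -/
theorem maps_of_normalizer {g : d.K} (hg : ∀ x ∈ d.bar.range,
    QuotientGroup.mk' d.zK g * x * (QuotientGroup.mk' d.zK g)⁻¹ ∈ d.bar.range) :
    ∀ q, Inn q → ∃ q', Inn q' ∧ (g : H) * d.ι q * (g : H)⁻¹ = d.ι q' := by
  intro q hq
  obtain ⟨w, hw⟩ := hg _ ⟨⟨q, inn_iff.2 hq⟩, rfl⟩
  have h1 : QuotientGroup.mk' d.zK ((d.inK w)⁻¹ * (g * d.inK ⟨q, inn_iff.2 hq⟩ * g⁻¹)) = 1 := by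
    rw [map_mul, map_mul, map_mul, map_inv, map_inv]
    exact inv_mul_eq_one.2 hw
  rw [QuotientGroup.mk'_apply, QuotientGroup.eq_one_iff, zK, mem_subgroupOf, zpowers_t] at h1
  change (d.ι w)⁻¹ * ((g : H) * d.ι q * (g : H)⁻¹) = 1 ∨
    (d.ι w)⁻¹ * ((g : H) * d.ι q * (g : H)⁻¹) = d.ι (t 2) at h1
  rcases h1 with e | e <;> rw [inv_mul_eq_iff_eq_mul] at e
  · exact ⟨w, inn_iff.1 w.2, by rw [e, mul_one]⟩
  · exact ⟨w * t 2, inn_facts.1 _ _ (inn_iff.1 w.2) inn_facts.2.2.2.1, by rw [e, map_mul]⟩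

theorem hns_bar : ¬ IsConj (d.bar ⟨u 2, inn_iff.2 extra_facts.2.2.2.2.2.2.1⟩)
    (d.bar ⟨i0, inn_iff.2 extra_facts.2.2.2.2.2.1⟩) := by
  intro h
  obtain ⟨n, hn⟩ := isConj_iff.1 h
  obtain ⟨g, rfl⟩ := QuotientGroup.mk'_surjective d.zK n
  obtain ⟨-, -, -, -, -, -, -, hi, hti, hu, -, -⟩ := extra_facts
  obtain ⟨h2, h1, -⟩ := i0_facts
  have hu2 : u 2 * u 2 = (1 : M4) ∧ u 2 ≠ (1 : M4) := ⟨t_sq.2.2.2.2.2.2.1, t_sq.2.2.2.2.2.2.2⟩
  change QuotientGroup.mk' d.zK g * QuotientGroup.mk' d.zK _ * (QuotientGroup.mk' d.zK g)⁻¹ =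
    QuotientGroup.mk' d.zK _ at hn
  rw [← map_inv, ← map_mul, ← map_mul, QuotientGroup.mk'_apply, QuotientGroup.mk'_apply, QuotientGroup.eq,
    zK, mem_subgroupOf, zpowers_t] at hn
  change ((g : H) * d.ι (u 2) * (g : H)⁻¹)⁻¹ * d.ι i0 = 1 ∨
    ((g : H) * d.ι (u 2) * (g : H)⁻¹)⁻¹ * d.ι i0 = d.ι (t 2) at hn
  rcases hn with e | e <;> rw [inv_mul_eq_iff_eq_mul] at e
  · rw [mul_one] at e
    exact absurd (d.sep _ _ hu2.1 hu2.2 h2 h1 (isConj_iff.2 ⟨g, e.symm⟩)) (by rw [hu, hi]; simp)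
  · have hc : IsConj (d.ι (u 2)) (d.ι (t 2 * i0)) := isConj_iff.2 ⟨g, by
      rw [t_comm i0, map_mul, e, mul_assoc _ (d.ι (t 2)) (d.ι (t 2)), ← map_mul, tt, map_one, mul_one]⟩
    have := d.sep (u 2) (t 2 * i0) hu2.1 hu2.2 (by decide +kernel) (by decide +kernel) hc
    exact absurd this (by rw [hu, hti]; simp)

/-- **The image of the inner part is normal, self-centralising, with semiregular automizer.** -/
theorem bar_normal : ∀ n : ↥d.K ⧸ d.zK, (∀ x ∈ d.bar.range, n * x * n⁻¹ ∈ d.bar.range) ∧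
    (∀ x ∈ d.bar.range, x ≠ 1 → n * x * n⁻¹ = x → n ∈ d.bar.range) := by
  haveI : Fact (Nat.Prime 2) := ⟨Nat.prime_two⟩
  obtain ⟨W, hW⟩ := d.exists_sylow
  have hsq : ∀ a ∈ (W : Subgroup (↥d.K ⧸ d.zK)), a * a = 1 := fun a ha => d.bar_sq (hW ▸ ha)
  have hfix : ∀ n ∈ normalizer ((W : Subgroup (↥d.K ⧸ d.zK)) : Set (↥d.K ⧸ d.zK)),
      ∀ a ∈ (W : Subgroup (↥d.K ⧸ d.zK)), a ≠ 1 → n * a * n⁻¹ = a →
        n ∈ centralizer ((W : Subgroup (↥d.K ⧸ d.zK)) : Set (↥d.K ⧸ d.zK)) := by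
    intro n hn a ha ha1 hfix
    have hab : (W : Subgroup (↥d.K ⧸ d.zK)) ≤ centralizer ((W : Subgroup (↥d.K ⧸ d.zK)) : Set (↥d.K ⧸ d.zK)) :=
      fun x hx => mem_centralizer_iff.2 fun y hy => by
        have e := inv_eq_of_mul_eq_one_left (hsq _ (mul_mem hx hy))
        rw [_root_.mul_inv_rev, inv_eq_of_mul_eq_one_left (hsq x hx), inv_eq_of_mul_eq_one_left (hsq y hy)] at e
        exact e
    obtain ⟨g, rfl⟩ := QuotientGroup.mk'_surjective d.zK n
    obtain ⟨σ, hσ, hσe⟩ := d.exists_map (d.maps_of_normalizer (g := g)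
      (fun x hx => hW ▸ (mem_normalizer_iff.1 hn x).1 (hW ▸ hx)))
    have hbar : ∀ q : ↥(M0 (2 ^ 2)), QuotientGroup.mk' d.zK g * d.bar q * (QuotientGroup.mk' d.zK g)⁻¹ =
        d.bar ⟨σ q, inn_iff.2 (hσ.inn _ (inn_iff.1 q.2))⟩ := fun q => by
      show QuotientGroup.mk' d.zK g * QuotientGroup.mk' d.zK _ * (QuotientGroup.mk' d.zK g)⁻¹ = QuotientGroup.mk' d.zK _
      rw [← map_inv, ← map_mul, ← map_mul]
      exact congrArg _ (Subtype.ext (hσe _ (inn_iff.1 q.2)))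
    rw [hW] at ha
    obtain ⟨q, rfl⟩ := ha
    have hq1 : ¬ Eqv (q : M4) 1 := fun h => ha1 (d.bar_eq_one.2 h)
    have hqf : Eqv (σ q) q := d.bar_eqv.1 ((hbar q).symm.trans hfix)
    have h4 : QuotientGroup.mk' d.zK g ^ 4 ∈ centralizer ((W : Subgroup (↥d.K ⧸ d.zK)) : Set (↥d.K ⧸ d.zK)) := by
      refine mem_centralizer_iff.2 fun x hx => ?_
      obtain ⟨p, rfl⟩ := hW.le hx
      set n := QuotientGroup.mk' d.zK g
      have h : n ^ 4 * d.bar p * (n ^ 4)⁻¹ = d.bar p := by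
        rw [show n ^ 4 * d.bar p * (n ^ 4)⁻¹ = n * (n * (n * (n * d.bar p * n⁻¹) * n⁻¹) * n⁻¹) * n⁻¹ by
          simp only [pow_succ, pow_zero, one_mul, mul_assoc, _root_.mul_inv_rev], hbar, hbar, hbar, hbar]
        exact d.bar_eqv.2 (hσ.fix_four (inn_iff.1 q.2) hq1 hqf (inn_iff.1 p.2))
      exact (mul_inv_eq_iff_eq_mul.1 h).symm
    set N := normalizer ((W : Subgroup (↥d.K ⧸ d.zK)) : Set (↥d.K ⧸ d.zK))
    obtain ⟨i, hi⟩ : Odd ((W : Subgroup (↥d.K ⧸ d.zK)).subgroupOf N).index := by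
      rw [Nat.odd_iff, ← Nat.two_dvd_ne_zero]
      exact fun h => W.not_dvd_index (h.trans (Subgroup.relIndex_dvd_index_of_le le_normalizer))
    haveI : ((W : Subgroup (↥d.K ⧸ d.zK)).subgroupOf N).Normal := normal_in_normalizer
    have hm := ((W : Subgroup (↥d.K ⧸ d.zK)).subgroupOf N).pow_index_mem ⟨_, hn⟩
    rw [hi, mem_subgroupOf] at hm
    have hodd := pow_mem (hab hm) (2 * i + 1)
    rw [SubmonoidClass.coe_pow, ← pow_mul, show (2 * i + 1) * (2 * i + 1) = 1 + 4 * (i * i + i) by ring, pow_add,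
      pow_one] at hodd
    have h' := pow_mem h4 (i * i + i)
    rw [← pow_mul] at h'
    exact (mul_mem_cancel_right h').1 hodd
  obtain ⟨hnorm, hcent⟩ := normal_of_semiregular d.bar_noOdd W hsq (hW ▸ d.card_bar) hfix
    ⟨_, hW ▸ ⟨_, rfl⟩, _, hW ▸ ⟨_, rfl⟩, fun e => extra_facts.2.2.2.2.2.2.2.2.2.2.2 (d.bar_eq_one.1 e),
      fun e => extra_facts.2.2.2.2.2.2.2.2.2.2.1 (d.bar_eq_one.1 e), d.hns_bar⟩
  intro n
  refine ⟨fun x hx => hW ▸ hnorm.conj_mem x (hW ▸ hx) n, fun x hx hx1 he => hW ▸ hcent (hfix n ?_ x (hW ▸ hx) hx1 he)⟩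
  rw [normalizer_eq_top_iff.2 hnorm]
  exact mem_top n

/-- The inner part inside the group. -/
def Q0 : Subgroup H := (M0 (2 ^ 2)).map d.ι

theorem mem_Q0 {x : H} : x ∈ d.Q0 ↔ ∃ q, Inn q ∧ d.ι q = x := by
  simp only [Q0, Subgroup.mem_map, inn_iff]

theorem mem_or (g : H) : g ∈ d.K ∨ d.ι (jj 2) * g ∈ d.K := by
  haveI := d.K_normal
  by_cases hg : g ∈ d.K
  · exact Or.inl hg
  · exact Or.inr ((mul_mem_iff_of_index_two d.K_index).2
      (iff_of_false (fun h => jj_notMem (a := 2) (by norm_num) ((d.mem_K _).1 h)) hg))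

theorem maps (g : H) : ∀ q, Inn q → ∃ q', Inn q' ∧ g * d.ι q * g⁻¹ = d.ι q' := by
  rcases d.mem_or g with hg | hg
  · exact d.maps_of_normalizer (g := ⟨g, hg⟩) fun x hx => (d.bar_normal _).1 x hx
  · intro q hq
    obtain ⟨p, hp, hpe⟩ := d.maps_of_normalizer (g := ⟨_, hg⟩) (fun x hx => (d.bar_normal _).1 x hx) q hq
    refine ⟨jj 2 * p * (jj 2)⁻¹, inn_iff.1 (GTwoCent.M0_normal.conj_mem _ (inn_iff.2 hp) _), ?_⟩
    have hj : (d.ι (jj 2))⁻¹ = d.ι (jj 2) := inv_eq_of_mul_eq_one_left (by rw [← map_mul, jj_sq, map_one])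
    rw [map_mul, map_mul, map_inv, ← hpe]
    simp only [Subtype.coe_mk]
    calc g * d.ι q * g⁻¹ = (d.ι (jj 2))⁻¹ * (d.ι (jj 2) * g * d.ι q * (d.ι (jj 2) * g)⁻¹) * (d.ι (jj 2))⁻¹⁻¹ := by group
      _ = _ := by rw [inv_inv, hj]

theorem Q0_normal : d.Q0.Normal := ⟨fun x hx g => by
  obtain ⟨q, hq, rfl⟩ := d.mem_Q0.1 hx
  obtain ⟨q', hq', e⟩ := d.maps g q hq
  exact e ▸ d.mem_Q0.2 ⟨q', hq', rfl⟩⟩

theorem exists_perm (h : H) : ∀ i, ∃ j, ∃ q, Eqv q (point j) ∧ h * d.ι (point i) * h⁻¹ = d.ι q := by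
  intro i
  obtain ⟨σ, hσ, hσe⟩ := d.exists_map (d.maps h)
  obtain ⟨hp, hcov, -⟩ := point_spec
  obtain ⟨j, hj⟩ := hcov (σ (point i)) (hσ.inE (hp i).1) (fun e => (hp i).2.1 (hσ.eqv_one (hp i).1.1 e))
  exact ⟨j, _, hj, hσe _ (hp i).1.1⟩

/-- The image of a point. -/
noncomputable def act (h : H) (i : Fin 3) : Fin 3 := Classical.choose (d.exists_perm h i)

theorem act_eq {h : H} {i j : Fin 3} {q : M4} (hq : Eqv q (point j)) (he : h * d.ι (point i) * h⁻¹ = d.ι q) :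
    d.act h i = j := by
  obtain ⟨q', hq', he'⟩ := Classical.choose_spec (d.exists_perm h i)
  rw [← d.toTyped.ι_inj (he'.symm.trans he)] at hq
  exact point_spec.2.2.1 _ _ (hq'.symm.trans hq)

theorem act_spec (h : H) (i : Fin 3) : ∃ q, Eqv q (point (d.act h i)) ∧ h * d.ι (point i) * h⁻¹ = d.ι q :=
  Classical.choose_spec (d.exists_perm h i)

theorem act_mul (g h : H) (i : Fin 3) : d.act (g * h) i = d.act g (d.act h i) := by
  obtain ⟨q, hq, he⟩ := d.act_spec h i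
  obtain ⟨p, hp, hpe⟩ := d.act_spec g (d.act h i)
  rcases hq with rfl | rfl
  · refine d.act_eq hp ?_
    rw [show g * h * d.ι (point i) * (g * h)⁻¹ = g * (h * d.ι (point i) * h⁻¹) * g⁻¹ by group, he, hpe]
  · refine d.act_eq (q := t 2 * p) (Eqv.trans (Or.inr rfl) hp) ?_
    rw [show g * h * d.ι (point i) * (g * h)⁻¹ = g * (h * d.ι (point i) * h⁻¹) * g⁻¹ by group, he, map_mul,
      map_mul, show g * (d.ι (t 2) * d.ι (point (d.act h i))) * g⁻¹ =
        (g * d.ι (t 2) * g⁻¹) * (g * d.ι (point (d.act h i)) * g⁻¹) by group, d.conj_t, hpe]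

theorem act_one (i : Fin 3) : d.act 1 i = i := d.act_eq (Eqv.refl _) (by group)

/-- The action on the three points. -/
noncomputable def perm : H →* Equiv.Perm (Fin 3) where
  toFun h :=
    { toFun := d.act h
      invFun := d.act h⁻¹
      left_inv := fun i => by rw [← d.act_mul, inv_mul_cancel, d.act_one]
      right_inv := fun i => by rw [← d.act_mul, mul_inv_cancel, d.act_one] }
  map_one' := Equiv.ext d.act_one
  map_mul' g h := Equiv.ext (d.act_mul g h)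

theorem perm_apply (h : H) (i : Fin 3) : d.perm h i = d.act h i := rfl

theorem mem_of_fix {g : H} (hg : g ∈ d.K) (hfix : d.act g 0 = 0) : g ∈ d.Q0 := by
  obtain ⟨q, hq, he⟩ := d.act_spec g 0
  rw [hfix] at hq
  have hI := (point_spec.1 0).1.1
  have hqI : Inn q := (hq.inE (point_spec.1 0).1).1
  set n := QuotientGroup.mk' d.zK ⟨g, hg⟩
  have hn : n * d.bar ⟨point 0, inn_iff.2 hI⟩ * n⁻¹ = d.bar ⟨point 0, inn_iff.2 hI⟩ := by
    conv_rhs => rw [← (show d.bar ⟨q, inn_iff.2 hqI⟩ = d.bar ⟨point 0, inn_iff.2 hI⟩ from d.bar_eqv.2 hq)]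
    show n * QuotientGroup.mk' d.zK _ * n⁻¹ = QuotientGroup.mk' d.zK _
    rw [← map_inv, ← map_mul, ← map_mul]
    exact congrArg _ (Subtype.ext he)
  obtain ⟨w, hw⟩ := (d.bar_normal n).2 _ ⟨_, rfl⟩ (fun e => (point_spec.1 0).2.1 (d.bar_eq_one.1 e)) hn
  have h1 : QuotientGroup.mk' d.zK ((d.inK w)⁻¹ * ⟨g, hg⟩) = 1 := by
    rw [map_mul, map_inv]; exact inv_mul_eq_one.2 hw
  rw [QuotientGroup.mk'_apply, QuotientGroup.eq_one_iff, zK, mem_subgroupOf, zpowers_t] at h1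
  change (d.ι w)⁻¹ * g = 1 ∨ (d.ι w)⁻¹ * g = d.ι (t 2) at h1
  rcases h1 with e | e <;> rw [inv_mul_eq_iff_eq_mul] at e
  · exact d.mem_Q0.2 ⟨w, inn_iff.1 w.2, by rw [e, mul_one]⟩
  · exact d.mem_Q0.2 ⟨w * t 2, inn_facts.1 _ _ (inn_iff.1 w.2) inn_facts.2.2.2.1, by rw [e, map_mul]⟩

theorem act_jj : d.act (d.ι (jj 2)) 0 = 0 ∧ d.act (d.ι (jj 2)) 1 = 2 ∧ d.act (d.ι (jj 2)) 2 = 1 :=
  ⟨d.act_eq point_spec.2.2.2.2.1 (by rw [map_mul, map_mul, map_inv]),
    d.act_eq point_spec.2.2.2.2.2.1 (by rw [map_mul, map_mul, map_inv]),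
    d.act_eq point_spec.2.2.2.2.2.2 (by rw [map_mul, map_mul, map_inv])⟩

theorem perm_jj : d.perm (d.ι (jj 2)) = Equiv.swap 1 2 := by
  refine Equiv.ext fun i => ?_
  rw [perm_apply]
  obtain ⟨h0, h1, h2⟩ := d.act_jj
  fin_cases i
  · exact h0.trans (by decide)
  · exact h1.trans (by decide)
  · exact h2.trans (by decide)

theorem perm_ker : d.perm.ker = d.Q0 := by
  refine le_antisymm (fun g hg => ?_) fun g hg => ?_
  · have h0 : ∀ i, d.act g i = i := fun i => by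
      rw [← perm_apply, MonoidHom.mem_ker.1 hg]; rfl
    rcases d.mem_or g with h | h
    · exact d.mem_of_fix h (h0 0)
    · exfalso
      have hm : d.ι (jj 2) * g ∈ d.perm.ker := by
        obtain ⟨q, hq, he⟩ := d.mem_Q0.1 (d.mem_of_fix h (by rw [act_mul, h0, d.act_jj.1]))
        rw [← he, MonoidHom.mem_ker]
        refine Equiv.ext fun i => ?_
        rw [perm_apply]
        exact d.act_eq (point_spec.2.2.2.1 q hq i) (by rw [map_mul, map_mul, map_inv])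
      rw [MonoidHom.mem_ker, map_mul, MonoidHom.mem_ker.1 hg, mul_one, perm_jj] at hm
      exact absurd hm (by decide)
  · obtain ⟨q, hq, rfl⟩ := d.mem_Q0.1 hg
    rw [MonoidHom.mem_ker]
    refine Equiv.ext fun i => ?_
    rw [perm_apply]
    exact d.act_eq (point_spec.2.2.2.1 q hq i) (by rw [map_mul, map_mul, map_inv])

theorem perm_surjective : Function.Surjective d.perm := by
  intro σ
  obtain ⟨g, -, hg⟩ := d.fused i1 (by decide +kernel) (by decide +kernel) (by decide +kernel)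
    (inn_iff.2 (by decide +kernel)) (by decide +kernel)
  have h1 : d.perm g 1 = 0 := d.act_eq (Eqv.refl _) hg
  obtain ⟨i, k, j, rfl⟩ := perm_gen (d.perm g) h1 σ
  exact ⟨d.ι (jj 2) ^ (i : ℕ) * g ^ (j : ℕ) * d.ι (jj 2) ^ (k : ℕ), by
    rw [map_mul, map_mul, map_pow, map_pow, map_pow, perm_jj]⟩

theorem card_Q0 : Nat.card d.Q0 = 32 := by
  rw [← card_inn, Q0, card_map_of_injective d.toTyped.ι_inj]

theorem isPGroup_Q0 : IsPGroup 2 d.Q0 :=
  d.S.2.to_le (by rintro _ ⟨q, -, rfl⟩; exact d.toTyped.ι_mem q)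

theorem pCore_eq : Cfsg.pCore 2 H = d.Q0 := by
  haveI : Fact (Nat.Prime 2) := ⟨Nat.prime_two⟩
  haveI := d.Q0_normal
  refine le_antisymm ?_ (Cfsg.Lib.Components.le_pCore d.isPGroup_Q0)
  rw [← perm_ker]
  intro x hx
  rw [MonoidHom.mem_ker]
  by_contra hne
  haveI : (Cfsg.pCore 2 H).Normal := inferInstance
  have hpow : ∀ y ∈ Cfsg.pCore 2 H, ∀ n : ℕ, d.perm y ^ 3 = 1 → d.perm y = 1 := fun y hy _ h => by
    obtain ⟨k, hk⟩ := Cfsg.Lib.Components.isPGroup_pCore 2 (⟨y, hy⟩ : ↥(Cfsg.pCore 2 H))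
    refine orderOf_eq_one_iff.1 (Nat.eq_one_of_dvd_coprimes (Nat.Coprime.pow_left k (by norm_num : Nat.Coprime 2 3))
      ((orderOf_map_dvd d.perm y).trans (orderOf_dvd_of_pow_eq_one (congrArg Subtype.val hk)))
      (orderOf_dvd_of_pow_eq_one h))
  rcases perm_two_el (d.perm x) with h | h
  · exact hne (hpow x hx 0 h)
  obtain ⟨γ, hγ, hγ1⟩ := perm_two _ hne h
  obtain ⟨g, rfl⟩ := d.perm_surjective γ
  rw [← map_inv, ← map_mul, ← map_mul, ← map_mul] at hγ hγ1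
  exact hγ1 (hpow _ (mul_mem hx (Normal.conj_mem inferInstance x hx g)) 0 hγ)

theorem extraspecial : Cfsg.IsExtraspecial 2 d.Q0 := by
  obtain ⟨hsq, hc, hcm, ⟨q, hq, p, hp, hqp⟩, -⟩ := extra_facts
  refine Cfsg.Lib.LargeExtra.isExtraspecial_of (z := d.ι (t 2)) d.isPGroup_Q0
    (d.mem_Q0.2 ⟨_, inn_facts.2.2.2.1, rfl⟩) ?_ ?_ (fun a _ => (d.comm_t a)) ?_ ?_ ?_ ?_
  · exact fun e => t_sq.2.1 (d.toTyped.ι_inj (e.trans (map_one _).symm))
  · rw [← map_mul, tt, map_one]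
  · rintro a ha b hb
    obtain ⟨a, hai, rfl⟩ := d.mem_Q0.1 ha
    obtain ⟨b, hbi, rfl⟩ := d.mem_Q0.1 hb
    rw [commutatorElement_def, ← map_inv, ← map_inv, ← map_mul, ← map_mul, ← map_mul]
    exact (hcm a hai b hbi).imp (fun e => by rw [e, map_one]) fun e => by rw [e]
  · rintro a ha
    obtain ⟨a, hai, rfl⟩ := d.mem_Q0.1 ha
    rw [← map_mul]
    exact (hsq a hai).imp (fun e => by rw [e, map_one]) fun e => by rw [e]
  · rintro a ha hcomm
    obtain ⟨a, hai, rfl⟩ := d.mem_Q0.1 ha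
    refine (hc a hai fun b hb => d.toTyped.ι_inj ?_).imp (fun e => by rw [e, map_one]) fun e => by rw [e]
    rw [map_mul, map_mul]
    exact (hcomm _ (d.mem_Q0.2 ⟨b, hb, rfl⟩)).symm.eq
  · refine ⟨_, d.mem_Q0.2 ⟨q, hq, rfl⟩, _, d.mem_Q0.2 ⟨p, hp, rfl⟩, fun e => hqp (d.toTyped.ι_inj ?_)⟩
    rw [map_mul, map_mul]
    exact e.eq

/-- An element of odd order outside the inner part fixes only the centre. -/
theorem fixed_le {x : H} (hx : Odd (orderOf x)) (hxQ : x ∉ d.Q0) {q : M4} (hq : Inn q)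
    (hc : x * d.ι q = d.ι q * x) : q = 1 ∨ q = t 2 := by
  have hxK : x ∈ d.K := by
    haveI := d.K_normal
    have h : orderOf (x : H ⧸ d.K) ∣ 2 := by
      have := _root_.orderOf_dvd_natCard (x : H ⧸ d.K)
      rwa [← index_eq_card, d.K_index] at this
    exact (QuotientGroup.eq_one_iff x).1 (orderOf_eq_one_iff.1 (Nat.eq_one_of_dvd_coprimes
      (Nat.coprime_two_right.2 hx) (orderOf_map_dvd (QuotientGroup.mk' d.K) x) h))
  by_contra hcon
  set n := QuotientGroup.mk' d.zK ⟨x, hxK⟩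
  have hn : n * d.bar ⟨q, inn_iff.2 hq⟩ * n⁻¹ = d.bar ⟨q, inn_iff.2 hq⟩ := by
    show n * QuotientGroup.mk' d.zK _ * n⁻¹ = QuotientGroup.mk' d.zK _
    rw [← map_inv, ← map_mul, ← map_mul]
    exact congrArg _ (Subtype.ext (mul_inv_eq_iff_eq_mul.2 hc))
  obtain ⟨w, hw⟩ := (d.bar_normal n).2 _ ⟨_, rfl⟩
    (fun e => hcon ((d.bar_eq_one.1 e).imp id fun e => by simpa using e)) hn
  have h1 : QuotientGroup.mk' d.zK ((d.inK w)⁻¹ * ⟨x, hxK⟩) = 1 := by
    rw [map_mul, map_inv]; exact inv_mul_eq_one.2 hw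
  rw [QuotientGroup.mk'_apply, QuotientGroup.eq_one_iff, zK, mem_subgroupOf, zpowers_t] at h1
  change (d.ι w)⁻¹ * x = 1 ∨ (d.ι w)⁻¹ * x = d.ι (t 2) at h1
  rcases h1 with e | e <;> rw [inv_mul_eq_iff_eq_mul] at e
  · exact hxQ (d.mem_Q0.2 ⟨w, inn_iff.1 w.2, by rw [e, mul_one]⟩)
  · exact hxQ (d.mem_Q0.2 ⟨w * t 2, inn_facts.1 _ _ (inn_iff.1 w.2) inn_facts.2.2.2.1, by rw [e, map_mul]⟩)

end CCore

end Cfsg.Lib.MTwelveType
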