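import Cfsg.Agent.MTwelveType.Cent

/-!
# The fused inner involutions modulo `t` and the maps preserving them
-/

set_option autoImplicit false
set_option linter.unusedSectionVars false
set_option linter.style.haveILetI false
set_option maxRecDepth 100000
set_option maxHeartbeats 400000
set_option synthInstance.maxSize 4096
set_option synthInstance.maxHeartbeats 400000

namespace Cfsg.Lib.MTwelveType

open Cfsg.Lib.GTwoType Cfsg.Lib.GTwoType.Mdl

/-- Inner elements. -/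
abbrev Inn (q : M4) : Prop := od (q.x + q.y) = false
/-- Equality modulo `t`. -/
abbrev Eqv (p q : M4) : Prop := p = q ∨ p = t 2 * q
/-- The inner subgroup of the fused involutions. -/
abbrev InE (q : M4) : Prop := od (q.x + q.y) = false ∧ q * q = 1 ∧ (q = 1 ∨ InT q = true)

/-- The three fused involutions modulo `t`. -/
def point : Fin 3 → M4 := ![u 2, i1, iv (2 ^ 2) 1 3]

theorem inE_mul : ∀ p : M4, InE p → ∀ q : M4, InE q → InE (p * q) ∧ p * q = q * p := by decide +kernel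

theorem inE_cent : ∀ x : M4, Inn x → (∀ e, InE e → x * e = e * x) → InE x := by decide +kernel

theorem inE_point : ∀ x : M4, Inn x → ¬ InE x → ∃ e, InE e ∧ ¬ Eqv e 1 ∧ x * e = e * x ∧
    ∀ e', InE e' → x * e' = e' * x → Eqv e' 1 ∨ Eqv e' e := by decide +kernel

theorem inE_three : ∀ e : M4, InE e → ¬ Eqv e 1 → ∀ f, InE f → ¬ Eqv f 1 → ¬ Eqv f e →
    ∀ g, InE g → ¬ Eqv g 1 → ¬ Eqv g e → Eqv g f ∨ Eqv g (e * f) := by decide +kernel

theorem comm_parity : ∀ e : M4, InE e → ∀ x, Inn x → ∀ y, Inn y →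
    (x * y * e = e * (x * y) ↔ (x * e = e * x ↔ y * e = e * y)) := by decide +kernel

theorem point_spec : (∀ i, InE (point i) ∧ ¬ Eqv (point i) 1 ∧ InT (point i) = true) ∧
    (∀ q : M4, InE q → ¬ Eqv q 1 → ∃ i, Eqv q (point i)) ∧ (∀ i j, Eqv (point i) (point j) → i = j) ∧
    (∀ q : M4, Inn q → ∀ i, Eqv (q * point i * q⁻¹) (point i)) ∧
    Eqv (Cfsg.Lib.GTwoCent.jj 2 * point 0 * (Cfsg.Lib.GTwoCent.jj 2)⁻¹) (point 0) ∧
    Eqv (Cfsg.Lib.GTwoCent.jj 2 * point 1 * (Cfsg.Lib.GTwoCent.jj 2)⁻¹) (point 2) ∧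
    Eqv (Cfsg.Lib.GTwoCent.jj 2 * point 2 * (Cfsg.Lib.GTwoCent.jj 2)⁻¹) (point 1) := by decide +kernel

theorem inn_facts : (∀ p q : M4, Inn p → Inn q → Inn (p * q)) ∧ (∀ p : M4, Inn p → Inn p⁻¹) ∧ Inn (1 : M4) ∧
    Inn (t 2) ∧ (t 2 : M4) * t 2 = 1 := by decide +kernel

theorem extra_facts : (∀ q : M4, Inn q → q * q = 1 ∨ q * q = t 2) ∧
    (∀ q : M4, Inn q → (∀ p, Inn p → q * p = p * q) → q = 1 ∨ q = t 2) ∧
    (∀ q : M4, Inn q → ∀ p, Inn p → q * p * q⁻¹ * p⁻¹ = 1 ∨ q * p * q⁻¹ * p⁻¹ = t 2) ∧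
    (∃ q : M4, Inn q ∧ ∃ p, Inn p ∧ q * p ≠ p * q) ∧
    (Finset.univ.filter fun q : M4 => Inn q).card = 32 ∧ Inn i0 ∧ Inn (u 2) ∧ InT i0 = false ∧
    InT (t 2 * i0) = false ∧ InT (u 2) = true ∧ ¬ Eqv i0 1 ∧ ¬ Eqv (u 2) 1 := by decide +kernel

theorem t_comm (q : M4) : t 2 * q = q * t 2 := (t_central (by norm_num) q).symm

theorem Eqv.refl (p : M4) : Eqv p p := Or.inl rfl

theorem Eqv.symm {p q : M4} (h : Eqv p q) : Eqv q p := by
  rcases h with h | h
  · exact Or.inl h.symm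
  · exact Or.inr (by rw [h, ← mul_assoc, inn_facts.2.2.2.2, one_mul])

theorem Eqv.trans {p q w : M4} (h : Eqv p q) (h' : Eqv q w) : Eqv p w := by
  rcases h with h | h <;> rcases h' with h' | h' <;> subst h h'
  · exact Or.inl rfl
  · exact Or.inr rfl
  · exact Or.inr rfl
  · exact Or.inl (by rw [← mul_assoc, inn_facts.2.2.2.2, one_mul])

theorem Eqv.mul {p p' q q' : M4} (h : Eqv p p') (h' : Eqv q q') : Eqv (p * q) (p' * q') := by
  rcases h with h | h <;> rcases h' with h' | h' <;> subst h h'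
  · exact Or.inl rfl
  · exact Or.inr (by rw [← mul_assoc, ← t_comm, mul_assoc])
  · exact Or.inr (mul_assoc _ _ _)
  · refine Or.inl ?_
    rw [mul_assoc, ← mul_assoc p', ← t_comm p', mul_assoc, ← mul_assoc (t 2), inn_facts.2.2.2.2, one_mul]

theorem Eqv.comm {x x' e e' : M4} (h : Eqv x x') (h' : Eqv e e') (hc : x * e = e * x) : x' * e' = e' * x' := by
  have key : ∀ {a b : M4}, Commute (t 2 * a) b → Commute a b := fun {a b} h => by
    have := (show Commute (t 2) b from t_comm b).mul_left h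
    rwa [← mul_assoc, inn_facts.2.2.2.2, one_mul] at this
  have hc' : Commute x e := hc
  rcases h with h | h <;> rcases h' with h' | h' <;> subst h h'
  exacts [hc'.eq, (key hc'.symm).symm.eq, (key hc').eq, (key (key hc').symm).symm.eq]

theorem Eqv.inE {p q : M4} (h : Eqv p q) (hq : InE q) : InE p := by
  rcases h with rfl | rfl
  · exact hq
  · exact (inE_mul (t 2) (by decide +kernel) q hq).1

/-- A map on the inner part. -/
structure Map (σ : M4 → M4) : Prop where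
  inn : ∀ q, Inn q → Inn (σ q)
  mul : ∀ p q, Inn p → Inn q → σ (p * q) = σ p * σ q
  t : σ (GTwoType.Mdl.t 2) = GTwoType.Mdl.t 2
  inj : ∀ q, Inn q → σ q = 1 → q = 1
  inT : ∀ q, Inn q → q * q = 1 → q ≠ 1 → InT (σ q) = InT q

namespace Map

variable {σ : M4 → M4} (h : Map σ)
include h

theorem one : σ 1 = 1 := by
  have := h.mul 1 1 inn_facts.2.2.1 inn_facts.2.2.1
  rw [one_mul] at this
  exact mul_eq_left.1 this.symm

theorem inE {q : M4} (hq : InE q) : InE (σ q) := by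
  obtain ⟨hi, hs, ho⟩ := hq
  refine ⟨h.inn q hi, by rw [← h.mul q q hi hi, hs, h.one], ?_⟩
  rcases ho with rfl | ho
  · exact Or.inl h.one
  · by_cases h1 : q = 1
    · exact Or.inl (h1 ▸ h.one)
    · exact Or.inr ((h.inT q hi hs h1).trans ho)

theorem eqv {p q : M4} (hq : Inn q) (he : Eqv p q) : Eqv (σ p) (σ q) := by
  rcases he with rfl | rfl
  · exact Or.inl rfl
  · exact Or.inr (by rw [h.mul _ _ inn_facts.2.2.2.1 hq, h.t])

theorem eqv_one {q : M4} (hq : Inn q) (he : Eqv (σ q) 1) : Eqv q 1 := by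
  rcases he with e | e
  · exact Or.inl (h.inj q hq e)
  · rw [mul_one] at e
    refine Or.inr ?_
    have h' := h.inj (GTwoType.Mdl.t 2 * q) (inn_facts.1 _ _ inn_facts.2.2.2.1 hq)
      (by rw [h.mul _ _ inn_facts.2.2.2.1 hq, h.t, e, inn_facts.2.2.2.2])
    rw [mul_one, eq_inv_of_mul_eq_one_right h', inv_eq_of_mul_eq_one_right inn_facts.2.2.2.2]

theorem reflect {p q : M4} (hp : Inn p) (hq : Inn q) (he : Eqv (σ p) (σ q)) : Eqv p q := by
  have hq' := inn_facts.2.1 q hq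
  have h1 : Eqv (σ (p * q⁻¹)) 1 := by
    have hσ : σ q⁻¹ = (σ q)⁻¹ := eq_inv_of_mul_eq_one_left (by rw [← h.mul _ _ hq' hq, inv_mul_cancel, h.one])
    rw [h.mul _ _ hp hq', hσ]
    exact mul_inv_cancel (σ q) ▸ he.mul (Eqv.refl _)
  have := (h.eqv_one (inn_facts.1 _ _ hp hq') h1).mul (Eqv.refl q)
  rwa [inv_mul_cancel_right, one_mul] at this

theorem comm {x e : M4} (hx : Inn x) (he : Inn e) (hc : x * e = e * x) : σ x * σ e = σ e * σ x := by
  rw [← h.mul _ _ hx he, hc, h.mul _ _ he hx]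

theorem inj' {p q : M4} (hp : Inn p) (hq : Inn q) (he : σ p = σ q) : p = q := by
  have hq' := inn_facts.2.1 q hq
  refine mul_inv_eq_one.1 (h.inj _ (inn_facts.1 _ _ hp hq') ?_)
  rw [h.mul _ _ hp hq', he, ← h.mul _ _ hq hq', mul_inv_cancel, h.one]

/-- A map fixing a point modulo `t` has a fourth power trivial modulo `t`. -/
theorem fix_four {a : M4} (ha : Inn a) (ha1 : ¬ Eqv a 1) (hfix : Eqv (σ a) a) {x : M4} (hx : Inn x) :
    Eqv (σ (σ (σ (σ x)))) x := by
  obtain ⟨e, he, he1, hee⟩ : ∃ e, InE e ∧ ¬ Eqv e 1 ∧ Eqv (σ e) e := by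
    by_cases hE : InE a
    · exact ⟨a, hE, ha1, hfix⟩
    · obtain ⟨e, he, he1, hc, huniq⟩ := inE_point a ha hE
      refine ⟨e, he, he1, (huniq (σ e) (h.inE he) ((hfix.comm (Eqv.refl _) (h.comm ha he.1 hc)))).resolve_left
        fun h' => he1 (h.eqv_one he.1 h')⟩
  set τ := fun q => σ (σ q) with hτ
  have hE : ∀ f, InE f → Eqv (σ (σ f)) f := by
    intro f hf
    by_cases hf1 : Eqv f 1
    · have h1 : Eqv (σ f) 1 := h.one ▸ h.eqv inn_facts.2.2.1 hf1
      have h2 : Eqv (σ (σ f)) 1 := h.one ▸ h.eqv inn_facts.2.2.1 h1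
      exact h2.trans hf1.symm
    by_cases hfe : Eqv f e
    · exact ((h.eqv (h.inn e he.1) (h.eqv he.1 hfe)).trans (h.eqv he.1 hee)).trans (hee.trans hfe.symm)
    have hσ1 : ¬ Eqv (σ f) 1 := fun h' => hf1 (h.eqv_one hf.1 h')
    have hσe : ¬ Eqv (σ f) e := fun h' => hfe (h.reflect hf.1 he.1 (h'.trans hee.symm))
    rcases inE_three e he he1 f hf hf1 hfe (σ f) (h.inE hf) hσ1 hσe with c | c
    · exact (h.eqv hf.1 c).trans c
    · refine (h.eqv (inn_facts.1 _ _ he.1 hf.1) c).trans ?_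
      rw [h.mul _ _ he.1 hf.1]
      refine (hee.mul c).trans (Or.inl ?_)
      rw [← mul_assoc, he.2.1, one_mul]
  have hinnτ : ∀ q, Inn q → Inn (σ (σ q)) := fun q hq => h.inn _ (h.inn q hq)
  set d := x⁻¹ * σ (σ x) with hd
  have hxd : σ (σ x) = x * d := by rw [hd, mul_inv_cancel_left]
  have hdI : Inn d := inn_facts.1 _ _ (inn_facts.2.1 x hx) (hinnτ x hx)
  have hdE : InE d := by
    refine inE_cent d hdI fun f hf => ?_
    have hiff : σ (σ x) * f = f * σ (σ x) ↔ x * f = f * x := by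
      constructor
      · intro hc
        have hc' := (Eqv.refl (σ (σ x))).comm (hE f hf).symm hc
        rw [← h.mul _ _ (h.inn x hx) (h.inn f hf.1), ← h.mul _ _ (h.inn f hf.1) (h.inn x hx)] at hc'
        have hc'' := h.inj' (inn_facts.1 _ _ (h.inn x hx) (h.inn f hf.1)) (inn_facts.1 _ _ (h.inn f hf.1) (h.inn x hx)) hc'
        rw [← h.mul _ _ hx hf.1, ← h.mul _ _ hf.1 hx] at hc''
        exact h.inj' (inn_facts.1 _ _ hx hf.1) (inn_facts.1 _ _ hf.1 hx) hc''
      · intro hc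
        exact (Eqv.refl _).comm (hE f hf) (h.comm (h.inn x hx) (h.inn f hf.1) (h.comm hx hf.1 hc))
    have := (comm_parity f hf x hx d hdI).1
    rw [← hxd] at this
    by_cases hc : x * f = f * x
    · exact (this (hiff.2 hc)).1 hc
    · by_contra hd'
      refine hc (hiff.1 ?_)
      rw [hxd]
      exact (comm_parity f hf x hx d hdI).2 (iff_of_false hc hd')
  have h4 : σ (σ (σ (σ x))) = σ (σ x) * σ (σ d) := by
    conv_lhs => rw [hxd, h.mul _ _ hx hdI, h.mul _ _ (h.inn x hx) (h.inn d hdI)]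
  rw [h4, hxd]
  refine ((Eqv.refl (x * d)).mul (hE d hdE)).trans (Or.inl ?_)
  rw [mul_assoc, hdE.2.1, mul_one]

end Map

end Cfsg.Lib.MTwelveType
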